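import Mathlib.RingTheory.Flat.TorsionFree
import Mathlib.RingTheory.DedekindDomain.Basic
import Mathlib.RingTheory.Polynomial.Basic
import Mathlib.RingTheory.Flat.FaithfullyFlat.Algebra
import Mathlib.RingTheory.Ideal.GoingUp
import Mathlib.Algebra.Polynomial.Eval.Degree
import Mathlib.Algebra.Polynomial.FieldDivision
import Mathlib.RingTheory.PrincipalIdealDomain
import Mathlib.RingTheory.Spectrum.Prime.Topology
import Mathlib.RingTheory.RingHom.Flat

/-!
# The endomorphism `X ↦ f` of `k[X]`, `f` monic of positive degree, is faithfully flat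
-/

set_option autoImplicit false
universe u
open Polynomial

namespace Groth.Agent.Sga7.H760.PolyFlat

variable {k : Type u} [Field k] {f : k[X]}

theorem aeval_injective (hn : 0 < f.natDegree) :
    Function.Injective (aeval f : k[X] →ₐ[k] k[X]) := by
  rw [injective_iff_map_eq_zero]
  intro p hp
  have h1 : p.comp f = 0 := hp
  rw [comp_eq_zero_iff] at h1
  rcases h1 with h1 | ⟨-, h1⟩
  · exact h1
  · rw [h1, natDegree_C] at hn
    exact absurd hn (lt_irrefl _)

theorem aeval_isIntegral (hf : f.Monic) (hn : 0 < f.natDegree) :
    (aeval f : k[X] →ₐ[k] k[X]).toRingHom.IsIntegral := by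
  let φ : k[X] →+* k[X] := (aeval f : k[X] →ₐ[k] k[X]).toRingHom
  have hX : φ.IsIntegralElem X := by
    refine ⟨f.map C - C X, ?_, ?_⟩
    · refine Monic.sub_of_left (hf.map _) ?_
      rw [hf.degree_map, degree_eq_natDegree hf.ne_zero]
      exact lt_of_le_of_lt degree_C_le (by exact_mod_cast hn)
    · rw [eval₂_sub, eval₂_C, eval₂_map]
      have h1 : φ.comp C = C := by ext a; simp [φ]
      rw [h1]
      simp [φ]
  intro p
  induction p using Polynomial.induction_on' with
  | add p q hp hq => exact RingHom.IsIntegralElem.add _ hp hq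
  | monomial n a =>
    rw [← C_mul_X_pow_eq_monomial]
    refine RingHom.IsIntegralElem.mul _ ?_ ?_
    · have h : C a = φ (C a) := by simp [φ]
      rw [h]
      exact RingHom.isIntegralElem_map _
    · induction n with
      | zero => rw [pow_zero]; exact RingHom.isIntegralElem_one _
      | succ n ih => rw [pow_succ]; exact RingHom.IsIntegralElem.mul _ ih hX

theorem flat_of_injective {R S : Type u} [CommRing R] [IsDedekindDomain R] [CommRing S] [IsDomain S]
    (φ : R →+* S) (h : Function.Injective φ) : φ.Flat := by
  algebraize [φ]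
  have h1 : FaithfulSMul R S := (faithfulSMul_iff_algebraMap_injective R S).mpr h
  have h2 : Module.IsTorsionFree R S := inferInstance
  exact RingHom.flat_algebraMap_iff.mpr inferInstance

theorem aeval_flat (hn : 0 < f.natDegree) : (aeval f : k[X] →ₐ[k] k[X]).toRingHom.Flat :=
  flat_of_injective _ (aeval_injective hn)

theorem aeval_comap_surjective (hf : f.Monic) (hn : 0 < f.natDegree) :
    Function.Surjective (PrimeSpectrum.comap (aeval f : k[X] →ₐ[k] k[X]).toRingHom) :=
  (aeval_isIntegral hf hn).comap_surjective (aeval_injective hn)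

end Groth.Agent.Sga7.H760.PolyFlat
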