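import Groth.Agent.Sga7.H760.GaQuot
import Groth.Agent.Sga7.H760.PolyFlat

/-!
# A nontrivial homomorphism from the additive group over a field, part 2

`exists_isClosedImmersion`: let `k` be a field, `G` a group scheme locally of finite type over `k`
and `j : 𝔾_a ⟶ G` a nontrivial homomorphism.  Then there is a homomorphism `𝔾_a ⟶ G` which is a
closed immersion.
-/

set_option autoImplicit false
universe u
open CategoryTheory MonoidalCategory CartesianMonoidalCategory MonObj GrpObj AlgebraicGeometry Limits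
open scoped TensorProduct Polynomial

namespace Groth.Agent.Sga7.H760.GaQuot

open Groth.Agent.Books.AffBridge Groth.Agent.Sga3B Groth.Agent.Sga3B.GaPts
  Groth.Agent.Sga3B.AffPts Groth.Agent.Sga3B.RootHomDict

variable {k : Type u} [Field k]

/-- Descent along a faithfully flat quasi-compact morphism in `Over S`. -/
theorem exists_desc {S : Scheme.{u}} {X Y Z : Over S} (q : X ⟶ Y) [QuasiCompact q.left]
    [Surjective q.left] [Flat q.left] (j : X ⟶ Z)
    (h : ∀ (T : Over S) (a b : T ⟶ X), a ≫ q = b ≫ q → a ≫ j = b ≫ j) :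
    ∃ j' : Y ⟶ Z, q ≫ j' = j := by
  have hc : ∀ {T : Scheme.{u}} (g₁ g₂ : T ⟶ X.left), g₁ ≫ q.left = g₂ ≫ q.left →
      g₁ ≫ j.left = g₂ ≫ j.left := by
    intro T g₁ g₂ hg
    have hw : g₁ ≫ X.hom = g₂ ≫ X.hom := by
      rw [← Over.w q, ← Category.assoc, hg, Category.assoc]
    let a : Over.mk (g₁ ≫ X.hom) ⟶ X := Over.homMk g₁ rfl
    let b : Over.mk (g₁ ≫ X.hom) ⟶ X := Over.homMk g₂ hw.symm
    have hab : a ≫ q = b ≫ q := by ext1; exact hg
    exact congrArg CommaMorphism.left (h _ a b hab)
  have he := EffectiveEpi.fac q.left j.left hc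
  refine ⟨Over.homMk (EffectiveEpi.desc q.left j.left hc) ?_, ?_⟩
  · have : Epi q.left := inferInstance
    rw [← cancel_epi q.left, ← Category.assoc, he, Over.w, Over.w]
  · ext1
    exact he

instance isIso_gaTo_left : IsIso (gaTo (R := k)).left :=
  ⟨(gaFrom (R := k)).left, by rw [← Over.comp_left, gaTo_gaFrom]; rfl,
    by rw [← Over.comp_left, gaFrom_gaTo]; rfl⟩

instance isIso_gaFrom_left : IsIso (gaFrom (R := k)).left :=
  ⟨(gaTo (R := k)).left, by rw [← Over.comp_left, gaFrom_gaTo]; rfl,
    by rw [← Over.comp_left, gaTo_gaFrom]; rfl⟩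

lemma flat_phi {f : k[X]} (hn : 0 < f.natDegree) : Flat (phi f).left := by
  have h1 : Flat (Spec.map (CommRingCat.ofHom (Polynomial.aeval f : k[X] →ₐ[k] k[X]).toRingHom)) :=
    Flat.SpecMap_iff.mpr (PolyFlat.aeval_flat hn)
  have h2 : (phi f).left = (gaTo (R := k)).left ≫
      Spec.map (CommRingCat.ofHom (Polynomial.aeval f : k[X] →ₐ[k] k[X]).toRingHom) ≫
        (gaFrom (R := k)).left := by
    have := congr(($(phi_gaTo (f := f)) ≫ gaFrom).left)
    rw [Category.assoc, gaTo_gaFrom, Category.comp_id, Category.assoc] at this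
    exact this
  rw [h2]
  have h6 : Flat (gaFrom (R := k)).left := inferInstance
  exact MorphismProperty.comp_mem @Flat _ _ inferInstance
    (MorphismProperty.comp_mem @Flat _ _ h1 h6)

lemma surjective_phi {f : k[X]} (hf : f.Monic) (hn : 0 < f.natDegree) : Surjective (phi f).left := by
  have h1 : Surjective (Spec.map (CommRingCat.ofHom
      (Polynomial.aeval f : k[X] →ₐ[k] k[X]).toRingHom)) :=
    ⟨PolyFlat.aeval_comap_surjective hf hn⟩
  have h2 : (phi f).left = (gaTo (R := k)).left ≫
      Spec.map (CommRingCat.ofHom (Polynomial.aeval f : k[X] →ₐ[k] k[X]).toRingHom) ≫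
        (gaFrom (R := k)).left := by
    have := congr(($(phi_gaTo (f := f)) ≫ gaFrom).left)
    rw [Category.assoc, gaTo_gaFrom, Category.comp_id, Category.assoc] at this
    exact this
  rw [h2]
  have h6 : Surjective (gaFrom (R := k)).left := inferInstance
  exact MorphismProperty.comp_mem @Surjective _ _ inferInstance
    (MorphismProperty.comp_mem @Surjective _ _ h1 h6)

lemma isAffine_ga : IsAffine (Red.Ga (Spec (CommRingCat.of k))).left := by
  have h6 : IsAffine (SpecOver k k[X]).left := inferInstanceAs (IsAffine (Spec _))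
  exact IsAffine.of_isIso (gaTo (R := k)).left

lemma quasiCompact_phi (f : k[X]) : QuasiCompact (phi f).left := by
  have := isAffine_ga (k := k)
  infer_instance

/-- Locally for the fpqc topology, every point of `𝔾_a` lifts along `f`. -/
lemma exists_lift {f : k[X]} (hf : f.Monic) (hn : 0 < f.natDegree)
    {T : Over (Spec (CommRingCat.of k))} (x : T ⟶ Red.Ga (Spec (CommRingCat.of k))) :
    ∃ (T₁ : Over (Spec (CommRingCat.of k))) (π : T₁ ⟶ T)
      (y : T₁ ⟶ Red.Ga (Spec (CommRingCat.of k))), Epi π ∧ π ≫ x = y ≫ phi f := by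
  have h1 := flat_phi (k := k) hn
  have h2 := surjective_phi (k := k) hf hn
  have h3 := quasiCompact_phi (k := k) f
  let P := pullback x.left (phi f).left
  have hF : Flat (pullback.fst x.left (phi f).left) := inferInstance
  have hS : Surjective (pullback.fst x.left (phi f).left) := inferInstance
  have hE : Epi (pullback.fst x.left (phi f).left) := Flat.epi_of_flat_of_surjective _
  refine ⟨Over.mk (pullback.fst x.left (phi f).left ≫ T.hom),
    Over.homMk (pullback.fst x.left (phi f).left) rfl,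
    Over.homMk (pullback.snd x.left (phi f).left) ?_, ?_, ?_⟩
  · rw [← Over.w (phi f), ← Category.assoc, ← pullback.condition, Category.assoc, Over.w]
    rfl
  · have : Epi (Over.homMk (pullback.fst x.left (phi f).left) rfl :
      Over.mk (pullback.fst x.left (phi f).left ≫ T.hom) ⟶ T).left := hE
    exact Over.epi_of_epi_left _
  · ext1
    exact pullback.condition

/-- **L2** over any field. -/
theorem exists_isClosedImmersion {G : Over (Spec (CommRingCat.of k))} [GrpObj G]
    [LocallyOfFiniteType G.hom] (j : Red.Ga (Spec (CommRingCat.of k)) ⟶ G) [IsMonHom j] (hj : j ≠ 1) :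
    ∃ j' : Red.Ga (Spec (CommRingCat.of k)) ⟶ G, IsMonHom j' ∧ IsClosedImmersion j'.left := by
  obtain ⟨f, hf, hn, hker, hadd⟩ := exists_additive j hj
  have h1 := flat_phi (k := k) hn
  have h2 := surjective_phi (k := k) hf hn
  have h3 := quasiCompact_phi (k := k) f
  have hneg : ∀ (R : Type u) [CommRing R] [Algebra k R] (r s : R),
      Polynomial.aeval (r - s) f = Polynomial.aeval r f - Polynomial.aeval s f := by
    intro R _ _ r s
    rw [eq_sub_iff_add_eq, ← hadd, sub_add_cancel]
  have hpe : ∀ (T : Over (Spec (CommRingCat.of k))) (a b : Fn T),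
      Polynomial.aeval a f = Polynomial.aeval b f → pt T a ≫ j = pt T b ≫ j := by
    intro T a b hab
    have h4 : pt T (a - b) ≫ j = 1 := (hker T _).mpr (by rw [hneg, hab, sub_self])
    have h5 : pt T a = pt T (a - b) * pt T b := by rw [← pt_add, sub_add_cancel]
    rw [h5, MonObj.mul_comp, h4, _root_.one_mul]
  obtain ⟨j', hj'⟩ := exists_desc (phi f) j (by
    intro T x y hxy
    obtain ⟨a, rfl⟩ := pt_surjective x
    obtain ⟨b, rfl⟩ := pt_surjective y
    rw [pt_phi, pt_phi] at hxy
    exact hpe T a b (pt_injective T hxy))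
  have hlift : ∀ {T : Over (Spec (CommRingCat.of k))} (x : T ⟶ Red.Ga (Spec (CommRingCat.of k))),
      ∃ (T₁ : Over (Spec (CommRingCat.of k))) (π : T₁ ⟶ T) (a : Fn T₁), Epi π ∧
        π ≫ x = pt T₁ (Polynomial.aeval a f) ∧ π ≫ x ≫ j' = pt T₁ a ≫ j := by
    intro T x
    obtain ⟨T₁, π, y, hπ, hx⟩ := exists_lift hf hn x
    obtain ⟨a, rfl⟩ := pt_surjective y
    refine ⟨T₁, π, a, hπ, ?_, ?_⟩
    · rw [hx, pt_phi]
    · rw [← Category.assoc, hx, Category.assoc, hj']
  have hphi : ∀ (T : Over (Spec (CommRingCat.of k))) (a : Fn T),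
      pt T (Polynomial.aeval a f) ≫ j' = pt T a ≫ j := by
    intro T a
    rw [← pt_phi, Category.assoc, hj']
  have hmon : IsMonHom j' := by
    refine Pts.isMonHom_of_points j' ?_
    intro T x y
    obtain ⟨T₁, π, a, hπ, hx, hx'⟩ := hlift x
    obtain ⟨T₂, π', b, hπ', hy, hy'⟩ := hlift (π ≫ y)
    have hE : Epi (π' ≫ π) := inferInstance
    rw [← cancel_epi (π' ≫ π)]
    have e1 : (π' ≫ π) ≫ x = pt T₂ (Polynomial.aeval (fnMap π' a) f) := by
      rw [Category.assoc, hx, comp_pt, ← Polynomial.aeval_algHom_apply]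
    have e2 : (π' ≫ π) ≫ y = pt T₂ (Polynomial.aeval b f) := by
      rw [Category.assoc, hy]
    rw [← Category.assoc, MonObj.comp_mul, MonObj.comp_mul, ← Category.assoc, ← Category.assoc,
      e1, e2, ← pt_add, ← hadd, hphi, hphi, hphi, pt_add, MonObj.mul_comp]
  have hmono : Mono j' := by
    refine ⟨fun {T} x y hxy => ?_⟩
    have hE1 : x * y⁻¹ = 1 := by
      have h4 : (x * y⁻¹) ≫ j' = 1 := by
        have h7 := MonObj.mul_comp y y⁻¹ j'
        rw [MonObj.mul_comp, hxy, ← h7, mul_inv_cancel, MonObj.one_comp]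
      obtain ⟨T₁, π, a, hπ, hx, hx'⟩ := hlift (x * y⁻¹)
      rw [← cancel_epi π, MonObj.comp_one, hx]
      rw [h4, MonObj.comp_one] at hx'
      rw [(hker T₁ a).mp hx'.symm, pt_zero]
    exact mul_inv_eq_one.mp hE1
  refine ⟨j', hmon, ?_⟩
  have h5 : LocallyOfFiniteType (Red.Ga (Spec (CommRingCat.of k))).hom := by
    rw [← Over.w (gaTo (R := k))]
    have : LocallyOfFiniteType (SpecOver k k[X]).hom := by
      change LocallyOfFiniteType (Spec.map (CommRingCat.ofHom (algebraMap k k[X])))
      rw [HasRingHomProperty.Spec_iff (P := @LocallyOfFiniteType)]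
      exact RingHom.finiteType_algebraMap.mpr inferInstance
    infer_instance
  have h6 : QuasiCompact j'.left := by
    have := isAffine_ga (k := k)
    have hsep : IsSeparated G.hom := Groth.Agent.Books.AntiAffine.isSeparated_hom G
    have h7 : QuasiCompact (j'.left ≫ G.hom) := by
      rw [Over.w]
      infer_instance
    exact QuasiCompact.of_comp j'.left G.hom
  exact Groth.Agent.S3036.result k (Red.Ga _) G j'

end Groth.Agent.Sga7.H760.GaQuot

namespace Groth.Agent.Sga7.H760

/-- **L2** : a nontrivial homomorphism from `𝔾_a` gives a closed immersion homomorphism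
from `𝔾_a`. -/
theorem L2 (k : Type u) [Field k] [IsAlgClosed k] (G : Over (Spec (CommRingCat.of k))) [GrpObj G]
    [LocallyOfFiniteType G.hom] (j : Red.Ga (Spec (CommRingCat.of k)) ⟶ G) [IsMonHom j]
    (hj : j ≠ 1) :
    ∃ j' : Red.Ga (Spec (CommRingCat.of k)) ⟶ G, IsMonHom j' ∧ IsClosedImmersion j'.left :=
  GaQuot.exists_isClosedImmersion j hj

end Groth.Agent.Sga7.H760
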