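import Groth.Agent.Etbc.H205.HensExt
import Groth.Agent.S1987

/-!
# Finite separable extensions of a discrete valuation ring

`exists_ext`: `R` a discrete valuation ring, `κ` an extension of the residue field (algebraic), `T ⊆ κ` finite.
There is a discrete valuation ring `R₁` finite over `R` with residue field containing `T`, such that the
extensions `R₁[ϖ^{1/n}]` (`n` arbitrarily large) are integral closures of `R` in finite separable
extensions of `K`.
-/

set_option autoImplicit false
universe u

open IsLocalRing Polynomial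

namespace Groth.Agent.Sga7.H760.RamExt

/-- The fraction field of `A[X]/(f)`, `f` monic irreducible with nonzero derivative. -/
theorem finite_separable {A L : Type u} [CommRing A] [IsDomain A] [IsIntegrallyClosed A] [Field L]
    [Algebra A L] [IsFractionRing A L] (f : A[X]) (hf : f.Monic) (hirr : Irreducible f)
    (hder : derivative f ≠ 0) [IsDomain (AdjoinRoot f)] (L' : Type u) [Field L']
    [Algebra (AdjoinRoot f) L'] [IsFractionRing (AdjoinRoot f) L'] [Algebra A L']
    [IsScalarTower A (AdjoinRoot f) L'] [Algebra L L'] [IsScalarTower A L L'] :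
    FiniteDimensional L L' ∧ Algebra.IsSeparable L L' := by
  have hfin : Module.Finite A (AdjoinRoot f) := hf.finite_adjoinRoot
  have hdeg0 : f.degree ≠ 0 := by
    intro h
    exact hirr.not_isUnit (by
      rw [hf.natDegree_eq_zero.mp (natDegree_eq_zero_iff_degree_le_zero.mpr h.le)]
      exact isUnit_one)
  have hofinj : Function.Injective (algebraMap A (AdjoinRoot f)) :=
    AdjoinRoot.of.injective_of_degree_ne_zero hdeg0
  have hfs : FaithfulSMul A (AdjoinRoot f) := (faithfulSMul_iff_algebraMap_injective _ _).mpr hofinj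
  have hfd : FiniteDimensional L L' :=
    Module.Finite.of_isLocalizedModule (Rₚ := L) (nonZeroDivisors A)
      (IsScalarTower.toAlgHom A (AdjoinRoot f) L').toLinearMap
  refine ⟨hfd, ?_⟩
  let x : L' := algebraMap (AdjoinRoot f) L' (AdjoinRoot.root f)
  have hx0 : aeval x f = 0 := by
    change aeval (algebraMap (AdjoinRoot f) L' (AdjoinRoot.root f)) f = 0
    rw [aeval_algebraMap_apply, AdjoinRoot.aeval_eq, AdjoinRoot.mk_self, map_zero]
  have hfK : Irreducible (f.map (algebraMap A L)) :=
    (hf.irreducible_iff_irreducible_map_fraction_map (K := L)).mp hirr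
  have hmin : minpoly L x = f.map (algebraMap A L) := by
    refine (minpoly.eq_of_irreducible_of_monic hfK ?_ (hf.map _)).symm
    rw [aeval_map_algebraMap]
    exact hx0
  have hxs : IsSeparable L x := by
    rw [IsSeparable, hmin, separable_iff_derivative_ne_zero hfK]
    intro h
    apply hder
    rw [derivative_map] at h
    exact (Polynomial.map_injective _ (IsFractionRing.injective A L)) (by
      rw [h, Polynomial.map_zero])
  have hgen : IntermediateField.adjoin L {x} = ⊤ := by
    rw [eq_top_iff]
    intro z _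
    obtain ⟨a, b, hb, rfl⟩ := IsFractionRing.div_surjective (A := AdjoinRoot f) z
    have key : ∀ a : AdjoinRoot f, algebraMap (AdjoinRoot f) L' a ∈ IntermediateField.adjoin L {x} := by
      intro a
      obtain ⟨g, rfl⟩ := AdjoinRoot.mk_surjective a
      rw [← AdjoinRoot.aeval_eq, ← aeval_algebraMap_apply, ← aeval_map_algebraMap L]
      exact IntermediateField.algebra_adjoin_le_adjoin L {x}
        (Algebra.adjoin_singleton_eq_range_aeval L x ▸ ⟨_, rfl⟩)
    exact div_mem (key a) (key b)
  have h1 : Algebra.IsSeparable L (IntermediateField.adjoin L {x}) :=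
    (IntermediateField.isSeparable_adjoin_simple_iff_isSeparable L L').mpr hxs
  rw [hgen] at h1
  exact Algebra.IsSeparable.of_algHom L _
    (IntermediateField.topEquiv (F := L) (E := L')).symm.toAlgHom

section

variable (R K : Type u) [CommRing R] [Field K] [Algebra R K]

/-- `A` is a discrete valuation ring, finite over `R`, with fraction field finite separable over
`K`. -/
structure Ext (A : Type u) [CommRing A] [IsDomain A] [Algebra R A] (L : Type u) [Field L]
    [Algebra A L] [Algebra K L] [Algebra R L] : Prop where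
  dvr : IsDiscreteValuationRing A
  fin : Module.Finite R A
  frac : IsFractionRing A L
  tower : IsScalarTower R K L
  tower' : IsScalarTower R A L
  findim : FiniteDimensional K L
  sep : Algebra.IsSeparable K L

variable {R K} in
theorem Ext.adjoinRoot {A : Type u} [CommRing A] [IsDomain A] [Algebra R A] {L : Type u} [Field L]
    [Algebra A L] [Algebra K L] [Algebra R L] (h : Ext R K A L) (f : A[X]) (hf : f.Monic)
    (hirr : Irreducible f) (hder : derivative f ≠ 0) [IsDomain (AdjoinRoot f)]
    (hdvr : IsDiscreteValuationRing (AdjoinRoot f)) :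
    ∃ (L' : Type u) (_ : Field L') (_ : Algebra (AdjoinRoot f) L') (_ : Algebra K L')
      (_ : Algebra R L'), Ext R K (AdjoinRoot f) L' := by
  obtain ⟨i1, i2, i3, i4, i5, i6, i7⟩ := h
  have hfin : Module.Finite A (AdjoinRoot f) := hf.finite_adjoinRoot
  have hdeg0 : f.degree ≠ 0 := by
    intro h
    exact hirr.not_isUnit (by
      rw [hf.natDegree_eq_zero.mp (natDegree_eq_zero_iff_degree_le_zero.mpr h.le)]
      exact isUnit_one)
  have hofinj : Function.Injective (algebraMap A (AdjoinRoot f)) :=
    AdjoinRoot.of.injective_of_degree_ne_zero hdeg0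
  let L' := FractionRing (AdjoinRoot f)
  have hinj : Function.Injective (algebraMap A L') := by
    rw [IsScalarTower.algebraMap_eq A (AdjoinRoot f) L']
    exact (IsFractionRing.injective (AdjoinRoot f) L').comp hofinj
  let algLL' : Algebra L L' := (IsFractionRing.lift (A := A) (K := L) hinj).toAlgebra
  have htower : IsScalarTower A L L' := IsScalarTower.of_algebraMap_eq fun r =>
    (IsFractionRing.lift_algebraMap (A := A) (K := L) hinj r).symm
  obtain ⟨j1, j2⟩ := finite_separable (L := L) f hf hirr hder L'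
  let algKL' : Algebra K L' := ((algebraMap L L').comp (algebraMap K L)).toAlgebra
  have ht2 : IsScalarTower K L L' := IsScalarTower.of_algebraMap_eq fun r => rfl
  have ht3 : IsScalarTower R A L' := inferInstance
  have ht5 : IsScalarTower R (AdjoinRoot f) L' := inferInstance
  have ht4 : IsScalarTower R K L' := by
    refine IsScalarTower.of_algebraMap_eq fun r => ?_
    rw [IsScalarTower.algebraMap_apply R A L', IsScalarTower.algebraMap_apply A L L',
      ← IsScalarTower.algebraMap_apply R A L, IsScalarTower.algebraMap_apply R K L,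
      ← IsScalarTower.algebraMap_apply K L L']
  exact ⟨L', inferInstance, inferInstance, algKL', inferInstance, hdvr,
    Module.Finite.trans A (AdjoinRoot f), inferInstance, ht4, ht5,
    FiniteDimensional.trans K L L', Algebra.IsSeparable.trans K L L'⟩

end

/-- A monic lift of the minimal polynomial of an element of an extension of the residue field, with
nonzero derivative. -/
theorem exists_poly {A : Type u} [CommRing A] [IsDomain A] [IsDiscreteValuationRing A] {κ : Type u}
    [Field κ] (φ : A →+* κ) (hφ : RingHom.ker φ = maximalIdeal A) (t : κ)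
    (ht : ∃ p : A[X], p.Monic ∧ p.eval₂ φ t = 0) :
    ∃ f : A[X], f.Monic ∧ Irreducible f ∧ derivative f ≠ 0 ∧ f.eval₂ φ t = 0 ∧
      ∃ (_ : IsDomain (AdjoinRoot f)), IsDiscreteValuationRing (AdjoinRoot f) ∧
        ∀ π : A, Irreducible π → Irreducible (AdjoinRoot.of f π) := by
  have hloc : IsLocalHom φ := by
    refine ⟨fun a ha => ?_⟩
    by_contra hna
    have : a ∈ RingHom.ker φ := by rw [hφ]; exact (mem_maximalIdeal _).mpr hna
    rw [RingHom.mem_ker] at this
    exact ha.ne_zero this
  let k := ResidueField A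
  let _ : Algebra k κ := (ResidueField.lift φ).toAlgebra
  have halg : ∀ a : A, algebraMap k κ (residue A a) = φ a := fun a => rfl
  have heval : ∀ f : A[X], aeval t (f.map (residue A)) = f.eval₂ φ t := by
    intro f
    rw [aeval_def, eval₂_map]
    rfl
  have hint : IsIntegral k t := by
    obtain ⟨p, hp, hp'⟩ := ht
    exact ⟨p.map (residue A), hp.map _, by rw [← aeval_def, heval]; exact hp'⟩
  have hirr := minpoly.irreducible hint
  have hfact : Fact (Irreducible (minpoly k t)) := ⟨hirr⟩
  have hmroot : minpoly k (AdjoinRoot.root (minpoly k t)) = minpoly k t := by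
    rw [AdjoinRoot.minpoly_root hirr.ne_zero, (minpoly.monic hint).leadingCoeff, inv_one, C_1, mul_one]
  have hiroot : IsIntegral k (AdjoinRoot.root (minpoly k t)) :=
    AdjoinRoot.isIntegral_root hirr.ne_zero
  have key : ∀ f : A[X], f.Monic → f.map (residue A) = minpoly k t → derivative f ≠ 0 →
      ∃ f : A[X], f.Monic ∧ Irreducible f ∧ derivative f ≠ 0 ∧ f.eval₂ φ t = 0 ∧
      ∃ (_ : IsDomain (AdjoinRoot f)), IsDiscreteValuationRing (AdjoinRoot f) ∧
        ∀ π : A, Irreducible π → Irreducible (AdjoinRoot.of f π) := by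
    intro f hf hfmap hder
    have hfirr : Irreducible f := by
      refine Polynomial.Monic.irreducible_of_irreducible_map (residue A) f hf ?_
      rw [hfmap]
      exact hirr
    have h1 : ∀ π : A, Irreducible π → ∃ (_ : IsDomain (AdjoinRoot f))
        (_ : IsDiscreteValuationRing (AdjoinRoot f)), Irreducible (AdjoinRoot.of f π) := by
      intro π hπ
      obtain ⟨hdom, hdvr, e, he, -⟩ := Groth.Agent.Etbc.H205.HensExt.adjoinRoot_aux hπ f hf
        (AdjoinRoot (minpoly k t)) (AdjoinRoot.root (minpoly k t)) hiroot (by rw [hmroot, hfmap])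
        (AdjoinRoot.adjoinRoot_eq_top)
      exact ⟨hdom, hdvr, he⟩
    obtain ⟨π, hπ⟩ := IsDiscreteValuationRing.exists_irreducible A
    obtain ⟨hdom, hdvr, -⟩ := h1 π hπ
    refine ⟨f, hf, hfirr, hder, ?_, hdom, hdvr, fun π' hπ' => ?_⟩
    · rw [← heval, hfmap, minpoly.aeval]
    · obtain ⟨-, -, h2⟩ := h1 π' hπ'
      exact h2
  obtain ⟨f, hfmap, hfdeg, hf⟩ := lifts_and_degree_eq_and_monic (f := residue A)
    (p := minpoly k t)
    ((Polynomial.mem_lifts _).mpr (Polynomial.map_surjective (residue A) residue_surjective _))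
    (minpoly.monic hint)
  by_cases hder : derivative f = 0
  · obtain ⟨π, hπ⟩ := IsDiscreteValuationRing.exists_irreducible A
    have hdeg : 2 ≤ f.natDegree := by
      by_contra hlt
      rw [not_le, Nat.lt_succ_iff, Nat.le_one_iff_eq_zero_or_eq_one] at hlt
      rcases hlt with h0 | h1
      · have h2 := natDegree_eq_of_degree_eq hfdeg
        rw [h0] at h2
        exact (minpoly.natDegree_pos hint).ne h2
      · have h2 : derivative f = 1 := by
          have h3 := hf.as_sum
          rw [h1] at h3
          rw [h3]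
          simp
        rw [h2] at hder
        exact one_ne_zero hder
    refine key (f + C π * X) ?_ ?_ ?_
    · refine Monic.add_of_left hf ?_
      refine lt_of_le_of_lt (degree_C_mul_X_le π) ?_
      rw [degree_eq_natDegree hf.ne_zero]
      exact_mod_cast hdeg
    · rw [Polynomial.map_add, Polynomial.map_mul, map_C, map_X, hfmap]
      have : residue A π = 0 := by
        rw [residue_eq_zero_iff]
        exact (mem_maximalIdeal _).mpr hπ.not_isUnit
      rw [this, C_0, zero_mul, add_zero]
    · rw [derivative_add, hder, zero_add, derivative_C_mul, derivative_X, mul_one]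
      exact C_ne_zero.mpr hπ.ne_zero
  · exact key f hf hfmap hder

/-- The step: adjoining one element to the residue field. -/
theorem ker_lift {A : Type u} [CommRing A] [IsDomain A] [IsDiscreteValuationRing A] {κ : Type u}
    [Field κ] (φ : A →+* κ) (hφ : RingHom.ker φ = maximalIdeal A) (t : κ) (f : A[X])
    (ht : f.eval₂ φ t = 0) [IsDomain (AdjoinRoot f)] [IsDiscreteValuationRing (AdjoinRoot f)]
    (h : ∀ π : A, Irreducible π → Irreducible (AdjoinRoot.of f π)) :
    RingHom.ker (AdjoinRoot.lift φ t ht) = maximalIdeal (AdjoinRoot f) := by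
  obtain ⟨π, hπ⟩ := IsDiscreteValuationRing.exists_irreducible A
  have h1 := (h π hπ).maximalIdeal_eq
  have h2 : maximalIdeal (AdjoinRoot f) ≤ RingHom.ker (AdjoinRoot.lift φ t ht) := by
    rw [h1, Ideal.span_singleton_le_iff_mem, RingHom.mem_ker, AdjoinRoot.lift_of]
    have : π ∈ RingHom.ker φ := by rw [hφ]; exact (mem_maximalIdeal _).mpr hπ.not_isUnit
    exact this
  exact ((maximalIdeal.isMaximal _).eq_of_le (RingHom.ker_ne_top _) h2).symm

theorem exists_residue (R K : Type u) [CommRing R] [IsDomain R] [IsDiscreteValuationRing R]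
    [Field K] [Algebra R K] [IsFractionRing R K] (κ : Type u) [Field κ] (r : R →+* κ)
    (hr : RingHom.ker r = maximalIdeal R)
    (halg : ∀ x : κ, ∃ p : R[X], p.Monic ∧ p.eval₂ r x = 0) (T : Finset κ) :
    ∃ (A : Type u) (_ : CommRing A) (_ : IsDomain A) (_ : IsDiscreteValuationRing A) (_ : Algebra R A)
      (L : Type u) (_ : Field L) (_ : Algebra A L) (_ : Algebra K L) (_ : Algebra R L),
      Ext R K A L ∧ ∃ φ : A →+* κ, RingHom.ker φ = maximalIdeal A ∧ φ.comp (algebraMap R A) = r ∧
        ∀ t ∈ T, t ∈ φ.range := by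
  classical
  induction T using Finset.induction_on with
  | empty =>
    refine ⟨R, inferInstance, inferInstance, inferInstance, inferInstance, K, inferInstance,
      inferInstance, inferInstance, inferInstance,
      ⟨inferInstance, inferInstance, inferInstance, inferInstance, inferInstance, inferInstance,
        inferInstance⟩, r, hr, ?_, fun t ht => absurd ht (Finset.notMem_empty t)⟩
    rw [Algebra.algebraMap_self, RingHom.comp_id]
  | insert t T _ ih =>
    obtain ⟨A, _, _, _, _, L, _, _, _, _, hE, φ, hφ, hφr, hT⟩ := ih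
    obtain ⟨f, hf, hirr, hder, ht, hdom, hdvr, hπ⟩ := exists_poly φ hφ t (by
      obtain ⟨p, hp, hp'⟩ := halg t
      exact ⟨p.map (algebraMap R A), hp.map _, by rw [eval₂_map, hφr, hp']⟩)
    obtain ⟨L', _, _, _, _, hE'⟩ := hE.adjoinRoot f hf hirr hder hdvr
    refine ⟨AdjoinRoot f, inferInstance, hdom, hdvr, inferInstance, L', inferInstance, inferInstance,
      inferInstance, inferInstance, hE', AdjoinRoot.lift φ t ht, ker_lift φ hφ t f ht hπ, ?_, ?_⟩
    · ext x
      rw [RingHom.comp_apply, IsScalarTower.algebraMap_apply R A (AdjoinRoot f),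
        AdjoinRoot.algebraMap_eq, AdjoinRoot.lift_of, ← hφr, RingHom.comp_apply]
    · intro s hs
      rcases Finset.mem_insert.mp hs with rfl | hs
      · exact ⟨AdjoinRoot.root f, AdjoinRoot.lift_root ht⟩
      · obtain ⟨a, ha⟩ := hT s hs
        exact ⟨AdjoinRoot.of f a, by rw [AdjoinRoot.lift_of, ha]⟩

theorem exists_ext (R K : Type u) [CommRing R] [IsDomain R] [IsDiscreteValuationRing R] [Field K]
    [Algebra R K] [IsFractionRing R K] (κ : Type u) [Field κ] (r : R →+* κ)
    (hr : RingHom.ker r = IsLocalRing.maximalIdeal R)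
    (halg : ∀ x : κ, ∃ p : Polynomial R, p.Monic ∧ p.eval₂ r x = 0) (T : Finset κ) :
    ∃ (R₁ : Type u) (_ : CommRing R₁) (_ : IsLocalRing R₁) (φ₁ : R₁ →+* κ) (_ : IsLocalHom φ₁)
      (i : R →+* R₁) (ϖ : R₁), IsLocalRing.maximalIdeal R₁ = Ideal.span {ϖ} ∧ φ₁.comp i = r ∧
      (∀ t ∈ T, t ∈ φ₁.range) ∧
      ∀ N₀ : ℕ, ∃ n ≥ N₀, ∃ (K₂ : Type u) (_ : Field K₂) (_ : Algebra K K₂) (_ : Algebra R K₂)
        (_ : IsScalarTower R K K₂) (_ : FiniteDimensional K K₂) (_ : Algebra.IsSeparable K K₂)
        (_ : IsDiscreteValuationRing (integralClosure R K₂)) (i₂ : R₁ →+* integralClosure R K₂)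
        (w : integralClosure R K₂), w ∈ nonZeroDivisors (integralClosure R K₂) ∧ ¬ IsUnit w ∧
          w ^ n = i₂ ϖ ∧ i₂.comp i = algebraMap R (integralClosure R K₂) := by
  obtain ⟨A, _, _, _, _, L, _, _, _, _, hE, φ, hφ, hφr, hT⟩ := exists_residue R K κ r hr halg T
  obtain ⟨ϖ, hϖ⟩ := IsDiscreteValuationRing.exists_irreducible A
  have hloc : IsLocalHom φ := by
    refine ⟨fun a ha => ?_⟩
    by_contra hna
    have : a ∈ RingHom.ker φ := by rw [hφ]; exact (mem_maximalIdeal _).mpr hna
    rw [RingHom.mem_ker] at this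
    exact ha.ne_zero this
  refine ⟨A, inferInstance, inferInstance, φ, hloc, algebraMap R A, ϖ, hϖ.maximalIdeal_eq, hφr, hT,
    fun N₀ => ?_⟩
  obtain ⟨n, hn, hn2, hnK⟩ : ∃ n ≥ N₀, 2 ≤ n ∧ (n : K) ≠ 0 := by
    by_cases h : ((N₀ + 2 : ℕ) : K) = 0
    · refine ⟨N₀ + 3, by omega, by omega, fun h' => ?_⟩
      have : ((N₀ + 3 : ℕ) : K) = ((N₀ + 2 : ℕ) : K) + 1 := by push_cast; ring
      rw [h', h, zero_add] at this
      exact one_ne_zero this.symm
    · exact ⟨N₀ + 2, by omega, by omega, h⟩
  obtain ⟨hirr, hdom, hdvr, -⟩ := Groth.Agent.S1987.result A ϖ hϖ n hn2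
  have hnA : (n : A) ≠ 0 := by
    intro h
    have h1 : ((n : ℕ) : L) = 0 := by rw [← map_natCast (algebraMap A L), h, map_zero]
    rw [← map_natCast (algebraMap K L)] at h1
    exact hnK ((map_eq_zero _).mp h1)
  have hder : derivative (X ^ n - C ϖ : A[X]) ≠ 0 := by
    rw [derivative_sub, derivative_C, sub_zero, derivative_X_pow]
    intro h
    have h1 := congrArg (fun p => coeff p (n - 1)) h
    simp only [coeff_C_mul, coeff_X_pow_self, mul_one, coeff_zero] at h1
    exact hnA h1
  obtain ⟨K₂, _, _, _, _, hE₂⟩ := hE.adjoinRoot (X ^ n - C ϖ) (Groth.Agent.S1987.monic_f hn2) hirr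
    hder hdvr
  obtain ⟨-, j2, j3, j4, j5, j6, j7⟩ := hE₂
  let R₂ := AdjoinRoot (X ^ n - C ϖ : A[X])
  have hic : IsIntegralClosure R₂ R K₂ := IsIntegralClosure.of_isIntegrallyClosed R₂ R K₂
  let e : R₂ ≃ₐ[R] integralClosure R K₂ := IsIntegralClosure.equiv R R₂ K₂ (integralClosure R K₂)
  have hdvr₂ : IsDiscreteValuationRing (integralClosure R K₂) :=
    IsDiscreteValuationRing.RingEquivClass.isDiscreteValuationRing e
  have hroot : (AdjoinRoot.root (X ^ n - C ϖ : A[X])) ^ n = algebraMap A R₂ ϖ :=
    Groth.Agent.S1987.root_pow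
  have hofinj : Function.Injective (algebraMap A R₂) := by
    rw [AdjoinRoot.algebraMap_eq]
    apply AdjoinRoot.of.injective_of_degree_ne_zero
    rw [degree_X_pow_sub_C (by omega)]
    intro h
    have : n = 0 := by exact_mod_cast h
    omega
  have hrne : AdjoinRoot.root (X ^ n - C ϖ : A[X]) ≠ 0 := by
    intro h0
    rw [h0, zero_pow (by omega)] at hroot
    exact hϖ.ne_zero (hofinj (by rw [← hroot, map_zero]))
  refine ⟨n, hn, K₂, inferInstance, inferInstance, inferInstance, j4, j6, j7, hdvr₂,
    (e : R₂ →+* integralClosure R K₂).comp (algebraMap A R₂), e (AdjoinRoot.root _), ?_, ?_, ?_, ?_⟩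
  · rw [mem_nonZeroDivisors_iff_ne_zero]
    exact (map_ne_zero_iff e e.injective).mpr hrne
  · intro hu
    have h1 : IsUnit (AdjoinRoot.root (X ^ n - C ϖ : A[X])) := by
      have := hu.map e.symm
      rwa [AlgEquiv.symm_apply_apply] at this
    have h2 : IsUnit (algebraMap A R₂ ϖ) := by rw [← hroot]; exact h1.pow n
    have h3 : Module.Finite A R₂ := (Groth.Agent.S1987.monic_f (π := ϖ) hn2).finite_adjoinRoot
    have h4 : IsUnit ϖ := by
      have h5 : Algebra.IsIntegral A R₂ := inferInstance
      have h6 : IsLocalHom (algebraMap A R₂) := by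
        have : FaithfulSMul A R₂ := (faithfulSMul_iff_algebraMap_injective _ _).mpr hofinj
        infer_instance
      exact (isUnit_map_iff (algebraMap A R₂) ϖ).mp h2
    exact hϖ.not_isUnit h4
  · rw [← map_pow, hroot]
    rfl
  · ext x
    change ((e (algebraMap A R₂ (algebraMap R A x)) : integralClosure R K₂) : K₂) = _
    rw [← IsScalarTower.algebraMap_apply R A R₂, e.commutes]

end Groth.Agent.Sga7.H760.RamExt
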