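import Groth.Agent.Sga3C.FlatImage2
import Groth.Agent.Flat2D.DimMap
import Groth.Agent.Sga67.FiberPre
import Groth.Agent.Etcore.SmoothRed
import Mathlib.AlgebraicGeometry.Morphisms.QuasiFinite
import Mathlib.AlgebraicGeometry.Morphisms.Smooth

/-!
# Homomorphisms of group schemes over a field: factorisation and dimensions

`u : G ⟶ H` a quasi-compact homomorphism of group schemes locally of finite type over a field.

* `exists_fact` : `u = p ≫ i`, `p` faithfully flat of finite presentation, `i` a closed immersion;
* `krullDim_eq_of_flat` : flat, surjective, locally quasi-finite morphisms preserve the dimension;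
* `flat_of_krullDim_le` : if `u` is locally quasi-finite, `H` is smooth and `dim H ≤ dim G < ∞`
  then `u` is flat;
* `krullDim_eq_of_surjective` : `dim G = dim H` if `u` is surjective and locally quasi-finite.
-/

set_option autoImplicit false
universe u
open CategoryTheory MonoidalCategory CartesianMonoidalCategory MonObj GrpObj AlgebraicGeometry Limits

namespace Groth.Agent.Sga7.H760.FieldHom

open Groth.Agent.Sga3C Groth.Agent.Sga3C.FlatPt Groth.Agent.Sga3C.GrpBasic

section Dim

/-- Flat surjective locally quasi-finite morphisms preserve the dimension. -/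
theorem krullDim_eq_of_flat {X Y : Scheme.{u}} (p : X ⟶ Y) [Flat p] [Surjective p]
    [LocallyQuasiFinite p] : topologicalKrullDim X = topologicalKrullDim Y := by
  have hX : topologicalKrullDim X = Order.krullDim X :=
    Order.krullDim_eq_of_orderIso irreducibleSetEquivPoints
  have hY : topologicalKrullDim Y = Order.krullDim Y :=
    Order.krullDim_eq_of_orderIso irreducibleSetEquivPoints
  rw [hX, hY]
  have hco : ∀ x : X, Order.coheight x = Order.coheight (p x) :=
    Flat2D.DimMap.coheight_eq_of_generalizing p (Flat.generalizingMap p)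
      (Flat2D.DimMap.eq_of_specializes_of_locallyQuasiFinite p)
  rcases isEmpty_or_nonempty X with hE | hN
  · have hE' : IsEmpty Y := ⟨fun y => by
      obtain ⟨x, -⟩ := p.surjective y
      exact IsEmpty.false x⟩
    rw [Order.krullDim_eq_bot, Order.krullDim_eq_bot]
  · have hN' : Nonempty Y := hN.map p
    rw [Order.krullDim_eq_iSup_coheight_of_nonempty, Order.krullDim_eq_iSup_coheight_of_nonempty]
    congr 1
    simp_rw [hco]
    exact p.surjective.iSup_comp (g := fun y : Y => Order.coheight y)

/-- A closed subscheme of maximal (finite) dimension contains a maximal point. -/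
theorem exists_maximal {C H : Scheme.{u}} (i : C ⟶ H) [IsClosedImmersion i] [Nonempty C]
    (hle : topologicalKrullDim H ≤ topologicalKrullDim C) (hfin : topologicalKrullDim C < ⊤) :
    ∃ c : C, ∀ y : H, y ⤳ i c → y = i c := by
  have hC : topologicalKrullDim C = Order.krullDim C :=
    Order.krullDim_eq_of_orderIso irreducibleSetEquivPoints
  have hH : topologicalKrullDim H = Order.krullDim H :=
    Order.krullDim_eq_of_orderIso irreducibleSetEquivPoints
  rw [hC, hH] at hle
  rw [hC] at hfin
  have hfd : FiniteDimensionalOrder C := Order.finiteDimensionalOrder_iff_krullDim_ne_bot_and_top.mpr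
    ⟨Order.bot_lt_krullDim.ne', hfin.ne⟩
  by_contra hcon
  push Not at hcon
  have hmono : StrictMono (i : C → H) := by
    intro a b hab
    rw [lt_iff_le_not_ge] at hab ⊢
    have hs : b ⤳ a := hab.1
    refine ⟨hs.map i.continuous, fun h => hab.2 ?_⟩
    have hba : i a ⤳ i b := h
    exact i.isClosedEmbedding.isInducing.specializes_iff.mp hba
  let s : LTSeries C := LTSeries.longestOf C
  obtain ⟨y, hy, hne⟩ := hcon s.last
  have hlt : (s.map i hmono).last < y := by
    rw [LTSeries.last_map]
    refine lt_of_le_not_ge hy fun h => hne ?_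
    have h' : i s.last ⤳ y := h
    exact (Specializes.antisymm hy h').eq
  have h1 := Order.LTSeries.length_le_krullDim ((s.map i hmono).snoc y hlt)
  rw [RelSeries.snoc_length, LTSeries.map_length] at h1
  have h2 := h1.trans hle
  rw [Order.krullDim_eq_length_of_finiteDimensionalOrder] at h2
  have h3 : s.length + 1 ≤ (LTSeries.longestOf C).length := by exact_mod_cast h2
  have h4 : s.length = (LTSeries.longestOf C).length := rfl
  omega

end Dim

variable {k : Type u} [Field k]

theorem exists_fact {G H : Over (Spec (CommRingCat.of k))} [GrpObj G] [GrpObj H]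
    [LocallyOfFiniteType H.hom] [LocallyOfFiniteType G.hom] (u : G ⟶ H) [IsMonHom u]
    [QuasiCompact u.left] :
    ∃ (C : Over (Spec (CommRingCat.of k))) (_ : GrpObj C) (p : G ⟶ C) (i : C ⟶ H),
      IsMonHom p ∧ IsMonHom i ∧ p ≫ i = u ∧
      Flat p.left ∧ Surjective p.left ∧ LocallyOfFinitePresentation p.left ∧
      IsClosedImmersion i.left ∧ QuasiCompact p.left ∧ Flat C.hom := by
  have hs : Subsingleton (Spec (CommRingCat.of k)) :=
    inferInstanceAs (Subsingleton (PrimeSpectrum k))
  have : IsLocallyNoetherian H.left := LocallyOfFiniteType.isLocallyNoetherian H.hom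
  have : LocallyOfFiniteType u.left := by
    have : LocallyOfFiniteType (u.left ≫ H.hom) := by rw [Over.w]; infer_instance
    exact locallyOfFiniteType_of_comp u.left H.hom
  have hflat : ∀ {X : Scheme.{u}} (f : X ⟶ Spec (CommRingCat.of k)), Flat f := fun f => inferInstance
  exact FlatImage2.exists_factorisation (fun T => ArtinBase.universallyOpen_of_isArtinianRing k T.hom)
    u (hflat _)

/-- `u` is flat as soon as it is flat at one point. -/
theorem flat_of_isFlatAt {G H : Over (Spec (CommRingCat.of k))} [GrpObj G] [GrpObj H]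
    (u : G ⟶ H) [IsMonHom u] (y : G.left) (hy : IsFlatAt u.left y) : Flat u.left := by
  have hs : Subsingleton (Spec (CommRingCat.of k)) :=
    inferInstanceAs (Subsingleton (PrimeSpectrum k))
  refine flat_of_forall_isFlatAt _ fun x => ?_
  refine FlatHomog.isFlatAt_of_isFlatAt u (mulLeftShear u) ?_ x y (Subsingleton.elim _ _) hy
  ext1
  · simp
  · rw [Category.assoc, Category.assoc, mulLeftShear_hom_snd, whiskerLeft_snd, ← Category.assoc,
      mulLeftShear_hom_snd, Category.comp_id, MonObj.mul_comp, comp_mul]
    simp

/-- the structure morphism of a group scheme of finite type over a field: homomorphisms out of it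
are quasi-compact -/
theorem quasiCompact_left {G H : Over (Spec (CommRingCat.of k))} [LocallyOfFiniteType G.hom]
    [QuasiCompact G.hom] (u : G ⟶ H) : QuasiCompact u.left := by
  have h1 : IsLocallyNoetherian G.left := LocallyOfFiniteType.isLocallyNoetherian G.hom
  have h2 : CompactSpace G.left := QuasiCompact.compactSpace_of_compactSpace G.hom
  have h3 : IsNoetherian G.left := {}
  infer_instance

theorem exists_fact_lqf {G H : Over (Spec (CommRingCat.of k))} [GrpObj G] [GrpObj H]
    [LocallyOfFiniteType H.hom] [LocallyOfFiniteType G.hom] [QuasiCompact G.hom] (u : G ⟶ H)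
    [IsMonHom u] [LocallyQuasiFinite u.left] :
    ∃ (C : Over (Spec (CommRingCat.of k))) (_ : GrpObj C) (p : G ⟶ C) (i : C ⟶ H),
      IsMonHom p ∧ IsMonHom i ∧ p ≫ i = u ∧
      Flat p.left ∧ Surjective p.left ∧ LocallyQuasiFinite p.left ∧ IsClosedImmersion i.left ∧
      topologicalKrullDim G.left = topologicalKrullDim C.left := by
  have := quasiCompact_left u
  obtain ⟨C, hC, p, i, h1, h2, h3, h4, h5, h6, h7, -, -⟩ := exists_fact u
  have h8 : LocallyQuasiFinite p.left := by
    have h : LocallyQuasiFinite (p.left ≫ i.left) := by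
      rw [← Over.comp_left, h3]; infer_instance
    exact LocallyQuasiFinite.of_comp p.left i.left
  exact ⟨C, hC, p, i, h1, h2, h3, h4, h5, h8, h7, krullDim_eq_of_flat p.left⟩

theorem flat_of_krullDim_le {G H : Over (Spec (CommRingCat.of k))} [GrpObj G] [GrpObj H]
    [Smooth H.hom] [LocallyOfFiniteType G.hom] [QuasiCompact G.hom] (u : G ⟶ H)
    [IsMonHom u] [LocallyQuasiFinite u.left]
    (hle : topologicalKrullDim H.left ≤ topologicalKrullDim G.left)
    (hfin : topologicalKrullDim G.left ≠ ⊤) : Flat u.left := by
  obtain ⟨C, _, p, i, h1, h2, h3, h4, h5, h6, h7, h8⟩ := exists_fact_lqf u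
  have hne : Nonempty C.left := ⟨(η[C] : 𝟙_ (Over (Spec (CommRingCat.of k))) ⟶ C).left
    (IsLocalRing.closedPoint k)⟩
  rw [h8] at hle hfin
  obtain ⟨c, hc⟩ := exists_maximal i.left hle hfin.lt_top
  obtain ⟨y, rfl⟩ := p.left.surjective c
  refine flat_of_isFlatAt u y ?_
  have hy : u.left y = i.left (p.left y) := by
    rw [← Scheme.Hom.comp_apply, ← Over.comp_left, h3]
  rw [← hy] at hc
  have hred : IsReduced H.left := Etcore.SmoothRed.isReduced_of_smooth H.hom
  have hfld := Sga67.FiberPre.isField_stalk (u.left y) hc
  rw [isFlatAt_iff_stalkMap]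
  let _ := hfld.toField
  algebraize [(u.left.stalkMap y).hom]
  exact RingHom.flat_algebraMap_iff.mpr inferInstance

theorem krullDim_eq_of_surjective {G H : Over (Spec (CommRingCat.of k))} [GrpObj G] [GrpObj H]
    [LocallyOfFiniteType H.hom] [LocallyOfFiniteType G.hom] [QuasiCompact G.hom] (u : G ⟶ H)
    [IsMonHom u] [LocallyQuasiFinite u.left] [Surjective u.left] :
    topologicalKrullDim G.left = topologicalKrullDim H.left := by
  obtain ⟨C, _, p, i, h1, h2, h3, h4, h5, h6, h7, h8⟩ := exists_fact_lqf u
  rw [h8]
  have hs : Function.Surjective i.left := by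
    intro h
    obtain ⟨g, rfl⟩ := u.left.surjective h
    exact ⟨p.left g, by rw [← Scheme.Hom.comp_apply, ← Over.comp_left, h3]⟩
  exact IsHomeomorph.topologicalKrullDim_eq i.left
    (isHomeomorph_iff_isEmbedding_surjective.mpr ⟨i.left.isClosedEmbedding.isEmbedding, hs⟩)

end Groth.Agent.Sga7.H760.FieldHom
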