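import Groth.Prelude.Def_AlgGrp
import Groth.Agent.Sga3C.KerSquare
import Mathlib.AlgebraicGeometry.Morphisms.QuasiFinite
import Mathlib.AlgebraicGeometry.Morphisms.Finite

/-!
# Kernels of homomorphisms of group schemes

`ker u`, `kerι u : ker u ⟶ G` for a homomorphism `u : G ⟶ H` of group schemes over `S`
(as an `S`-scheme).  `lqf_left`: over any base, if `u` is quasi-compact and `ker u ⟶ S` is finite
(or has finite fibres) then `u` is locally quasi-finite.
-/

set_option autoImplicit false
universe u
open CategoryTheory MonoidalCategory CartesianMonoidalCategory MonObj GrpObj AlgebraicGeometry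

namespace Groth.Agent.Sga7.H760.Ker

variable {S : Scheme.{u}} {G H : Over S} [GrpObj G] [GrpObj H]

/-- the unit section as a morphism of schemes -/
noncomputable abbrev unit (H : Over S) [GrpObj H] : S ⟶ H.left := (η[H] : 𝟙_ (Over S) ⟶ H).left

omit [GrpObj G] in
lemma unit_comp (H : Over S) [GrpObj H] : unit H ≫ H.hom = 𝟙 S :=
  Over.w (η[H] : 𝟙_ (Over S) ⟶ H)

/-- The kernel of `u`, as an `S`-scheme. -/
noncomputable def ker (u : G ⟶ H) : Over S := Over.mk (Limits.pullback.snd u.left (unit H))

/-- The inclusion of the kernel of `u`. -/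
noncomputable def kerι (u : G ⟶ H) : ker u ⟶ G :=
  Over.homMk (Limits.pullback.fst u.left (unit H)) (by
    have h := Limits.pullback.condition (f := u.left) (g := unit H) =≫ H.hom
    simp only [Category.assoc, unit_comp, Over.w] at h
    simpa [ker] using h)

omit [GrpObj G] in
lemma ker_hom (u : G ⟶ H) : (ker u).hom = Limits.pullback.snd u.left (unit H) := rfl

omit [GrpObj G] in
theorem isKernel_ker (u : G ⟶ H) : AlgGrp.IsKernel (kerι u) u := by
  refine IsPullback.of_map (Over.forget S) ?_ ?_
  · ext1
    exact Limits.pullback.condition (f := u.left) (g := unit H)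
  · exact IsPullback.of_hasPullback u.left (unit H)

/-- A quasi-compact homomorphism with quasi-finite kernel is locally quasi-finite. -/
theorem lqf_left (u : G ⟶ H) [IsMonHom u] [LocallyOfFiniteType u.left] [QuasiCompact u.left]
    [LocallyQuasiFinite (ker u).hom] : LocallyQuasiFinite u.left := by
  obtain ⟨d, hd⟩ := Groth.Agent.Sga3C.KerSquare.isPullback_fst_ker u
  have h1 : LocallyQuasiFinite (Limits.pullback.fst u.left u.left) :=
    MorphismProperty.of_isPullback (P := @LocallyQuasiFinite) hd.flip
      (inferInstanceAs (LocallyQuasiFinite (ker u).hom))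
  refine LocallyQuasiFinite.of_finite_preimage_singleton _ fun h => ?_
  rcases (u.left ⁻¹' {h}).eq_empty_or_nonempty with h0 | ⟨g, hg⟩
  · rw [h0]; exact Set.finite_empty
  · refine Set.Finite.subset (((Limits.pullback.fst u.left u.left).finite_preimage_singleton g).image
      (Limits.pullback.snd u.left u.left)) ?_
    intro g' hg'
    obtain ⟨z, hz1, hz2⟩ := Scheme.Pullback.exists_preimage_pullback g g'
      ((show u.left g = h from hg).trans (show u.left g' = h from hg').symm)
    exact ⟨z, hz1, hz2⟩

end Groth.Agent.Sga7.H760.Ker
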