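import Groth.Prelude.Def_SGA7IX
import Groth.Agent.Sga7.H760.FieldHom
import Groth.Agent.Sga7.H760.Ker
import Groth.Agent.S3022
import Groth.Agent.S1386

/-!
# Homomorphisms which are isogenies on the fibre at a generization

`u : G ⟶ H` a homomorphism of group schemes over `S`, `G` flat, of finite presentation, `H` smooth,
`t ⤳ s`.

* `flat_fibreHom` : if `u_t` is surjective with finite kernel and `u_s` is locally quasi-finite
  then `u_s` is flat;
* `flatAt_of_flat_fibreHom` : if `u_s` is flat then `u` is flat at all points over `s`.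
-/

set_option autoImplicit false
universe u
open CategoryTheory MonoidalCategory CartesianMonoidalCategory MonObj GrpObj AlgebraicGeometry Limits

namespace Groth.Agent.Sga7.H760.FibreFlat

open Groth.Agent.Sga3C.FlatPt Groth.Agent.Sga7.H760.Ker Groth.Agent.Sga7.H760.FieldHom

section Field

variable {k : Type u} [Field k] {G H : Over (Spec (CommRingCat.of k))} [GrpObj G] [GrpObj H]

/-- a homomorphism with finite kernel between group schemes over a field, the source of finite type,
is locally quasi-finite. -/
theorem lqf_of_finite_ker [LocallyOfFiniteType G.hom] [QuasiCompact G.hom]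
    [LocallyOfFiniteType H.hom] (u : G ⟶ H) [IsMonHom u]
    (h : ∀ (N : Over (Spec (CommRingCat.of k))) (i : N ⟶ G), AlgGrp.IsKernel i u → IsFinite N.hom) :
    LocallyQuasiFinite u.left := by
  have : QuasiCompact u.left := quasiCompact_left u
  have : LocallyOfFiniteType u.left := by
    have : LocallyOfFiniteType (u.left ≫ H.hom) := by rw [Over.w]; infer_instance
    exact locallyOfFiniteType_of_comp u.left H.hom
  have : IsFinite (ker u).hom := h _ _ (isKernel_ker u)
  exact lqf_left u

end Field

variable {S : Scheme.{u}}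

/-- the dimension of the fibre -/
theorem dim_bc (G : Over S) (s : S) : topologicalKrullDim (Red.bc (S.fromSpecResidueField s) G).left =
    topologicalKrullDim ↥(G.hom.base ⁻¹' {s}) :=
  S3022.dim_fiber G.hom s

theorem dim_bc_eq (G : Over S) [GrpObj G] [Flat G.hom] [LocallyOfFinitePresentation G.hom] {s t : S}
    (h : t ⤳ s) : topologicalKrullDim (Red.bc (S.fromSpecResidueField t) G).left =
      topologicalKrullDim (Red.bc (S.fromSpecResidueField s) G).left := by
  rw [dim_bc, dim_bc]
  have h1 := S3022.result S G
  have h2 := h1 {topologicalKrullDim ↥(G.hom.base ⁻¹' {s})}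
  exact h.mem_open h2 rfl

theorem dim_bc_ne_top (G : Over S) [GrpObj G] [LocallyOfFiniteType G.hom] (s : S) :
    topologicalKrullDim (Red.bc (S.fromSpecResidueField s) G).left ≠ ⊤ := by
  obtain ⟨d, hd, -⟩ := S3022.exists_dim G s
  have : topologicalKrullDim (Red.bc (S.fromSpecResidueField s) G).left = d := hd
  rw [this]
  exact (WithBot.coe_lt_coe.mpr (ENat.natCast_lt_top d)).ne

/-- If `u_t` is surjective and locally quasi-finite, `t ⤳ s` and `u_s` is locally quasi-finite,
then `u_s` is flat. -/
theorem flat_fibreHom {G H : Over S} [GrpObj G] [GrpObj H] [Flat G.hom]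
    [LocallyOfFinitePresentation G.hom] [QuasiCompact G.hom] [Smooth H.hom] (u : G ⟶ H) [IsMonHom u]
    {s t : S} (hts : t ⤳ s) [LocallyQuasiFinite (SGA7.fibreHom t u).left]
    [Surjective (SGA7.fibreHom t u).left] [LocallyQuasiFinite (SGA7.fibreHom s u).left] :
    Flat (SGA7.fibreHom s u).left := by
  have i1 : ∀ x : S, LocallyOfFiniteType (Red.bc (S.fromSpecResidueField x) G).hom := fun x =>
    inferInstanceAs (LocallyOfFiniteType (Limits.pullback.snd G.hom (S.fromSpecResidueField x)))
  have i2 : ∀ x : S, QuasiCompact (Red.bc (S.fromSpecResidueField x) G).hom := fun x =>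
    inferInstanceAs (QuasiCompact (Limits.pullback.snd G.hom (S.fromSpecResidueField x)))
  have i3 : ∀ x : S, Smooth (Red.bc (S.fromSpecResidueField x) H).hom := fun x =>
    inferInstanceAs (Smooth (Limits.pullback.snd H.hom (S.fromSpecResidueField x)))
  have i4 : ∀ x : S, LocallyOfFiniteType (Red.bc (S.fromSpecResidueField x) H).hom := fun x =>
    inferInstance
  have i5 : ∀ x : S, IsMonHom (SGA7.fibreHom x u) := fun x => inferInstance
  have h1 := krullDim_eq_of_surjective (k := S.residueField t) (SGA7.fibreHom t u)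
  refine flat_of_krullDim_le (k := S.residueField s) (SGA7.fibreHom s u) ?_ (dim_bc_ne_top G s)
  rw [← dim_bc_eq G hts, ← dim_bc_eq H hts]
  exact h1.ge

theorem fibreHom_fst {G H : Over S} (u : G ⟶ H) (s : S) :
    (SGA7.fibreHom s u).left ≫ Limits.pullback.fst H.hom (S.fromSpecResidueField s) =
      Limits.pullback.fst G.hom (S.fromSpecResidueField s) ≫ u.left :=
  Limits.pullback.lift_fst _ _ _

theorem fibreHom_snd {G H : Over S} (u : G ⟶ H) (s : S) :
    (SGA7.fibreHom s u).left ≫ Limits.pullback.snd H.hom (S.fromSpecResidueField s) =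
      Limits.pullback.snd G.hom (S.fromSpecResidueField s) :=
  Limits.pullback.lift_snd _ _ _

/-- the map on fibres of `S1386` is flat if the one of `SGA7.fibreHom` is. -/
theorem flat_fiberMap {X Y : Scheme.{u}} (f : X ⟶ Y) (g : Y ⟶ S) (q : X ⟶ S) (hw : f ≫ g = q) (s : S)
    (a : Limits.pullback q (S.fromSpecResidueField s) ⟶ Limits.pullback g (S.fromSpecResidueField s))
    (h1 : a ≫ Limits.pullback.fst _ _ = Limits.pullback.fst _ _ ≫ f)
    (h2 : a ≫ Limits.pullback.snd _ _ = Limits.pullback.snd _ _) (ha : Flat a) :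
    Flat (MoreMor.fiberMap f g s) := by
  subst hw
  have h : MoreMor.fiberMap f g s = a := by
    refine Limits.pullback.hom_ext (f := g) (g := S.fromSpecResidueField s) ?_ ?_
    · exact (Limits.pullback.lift_fst _ _ _).trans h1.symm
    · exact (Limits.pullback.lift_snd _ _ _).trans h2.symm
  rw [h]
  exact ha

/-- Fibre criterion: if `G` is flat over `S` and `u_s` is flat then `u` is flat at the points over
`s` and `H` is flat at their images. -/
theorem isFlatAt_of_flat_fibreHom {G H : Over S} [Flat G.hom] [LocallyOfFinitePresentation G.hom]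
    [LocallyOfFiniteType H.hom] (u : G ⟶ H) (s : S) [Flat (SGA7.fibreHom s u).left]
    (x : G.left) (hx : G.hom x = s) : IsFlatAt u.left x := by
  have hw : u.left ≫ H.hom = G.hom := Over.w u
  have : LocallyOfFinitePresentation (u.left ≫ H.hom) := by rw [hw]; infer_instance
  have : Flat (u.left ≫ H.hom) := by rw [hw]; infer_instance
  have h1 := (S1386.result u.left H.hom).1 x
  have hs : H.hom (u.left x) = s := by
    rw [← Scheme.Hom.comp_apply, hw, hx]
  rw [isFlatAt_iff_stalkMap]
  refine (h1.mp ⟨Flat.stalkMap _ _, ?_⟩).2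
  have h2 : Flat (MoreMor.fiberMap u.left H.hom (H.hom (u.left x))) := by
    rw [hs]
    exact flat_fiberMap u.left H.hom G.hom hw s (SGA7.fibreHom s u).left (fibreHom_fst u s)
      (fibreHom_snd u s) ‹_›
  exact Flat.stalkMap _ _

/-- the set of points of `G` where `u` is flat is open (`G` flat over `S`) -/
theorem isOpen_flat {G H : Over S} [LocallyOfFinitePresentation G.hom] [Flat G.hom] [Flat H.hom]
    [LocallyOfFiniteType H.hom] (u : G ⟶ H) : IsOpen {x : G.left | IsFlatAt u.left x} := by
  have hw : u.left ≫ H.hom = G.hom := Over.w u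
  have : LocallyOfFinitePresentation (u.left ≫ H.hom) := by rw [hw]; infer_instance
  have h1 := (S1386.result u.left H.hom).2
  convert h1 using 1
  ext x
  rw [Set.mem_ofPred_eq, Set.mem_ofPred_eq, isFlatAt_iff_stalkMap]
  exact ⟨fun h => ⟨Flat.stalkMap _ _, h⟩, fun h => h.2⟩

end Groth.Agent.Sga7.H760.FibreFlat
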