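import Groth.Prelude.Def_SGA7IX
import Groth.Agent.Sga3B.KerGrp
import Groth.Agent.Sga7.H760.FibreFlat

/-!
# Kernels and base change; quasi-finiteness of fibres

* `isKernel_iff`, `isKernel_bc` : base change of kernels;
* `lqf_fibreHom` : `u_s` is locally quasi-finite if `u_x` is, `x : Spec K ⟶ S` with image `s`;
* `exists_open_lqf`: if `u_s` is locally quasi-finite, `u` is so over a neighbourhood of `s`;
* `exists_open_flat`: similarly for flatness.
-/

set_option autoImplicit false
universe u
open CategoryTheory MonoidalCategory CartesianMonoidalCategory MonObj GrpObj AlgebraicGeometry Limits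

namespace Groth.Agent.Sga7.H760.KerBc

open Groth.Agent.Sga3C.FlatPt Groth.Agent.Sga3B.KerGrp Groth.Agent.Sga3B.BcPts

variable {S : Scheme.{u}}

/-- points of a kernel -/
theorem isKernel_iff {N G H : Over S} [GrpObj H] (i : N ⟶ G) (u : G ⟶ H) :
    AlgGrp.IsKernel i u ↔ i ≫ u = 1 ∧ ∀ (T : Over S) (g : T ⟶ G), g ≫ u = 1 → ∃! y : T ⟶ N, y ≫ i = g := by
  constructor
  · intro h
    refine ⟨h.w, fun T g hg => ⟨h.lift g (toUnit T) hg, h.lift_fst _ _ _, fun y hy => ?_⟩⟩
    exact h.hom_ext (by rw [h.lift_fst]; exact hy) (toUnit_unique _ _)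
  · rintro ⟨h1, h2⟩
    have h3 : ∀ s : PullbackCone u η[H], s.fst ≫ u = 1 := fun s => by
      rw [s.condition, toUnit_unique s.snd (toUnit _)]; rfl
    choose l hl hl' using h2
    refine ⟨⟨h1⟩, ⟨PullbackCone.IsLimit.mk _ (fun s => l s.pt s.fst (h3 s)) ?_ ?_ ?_⟩⟩
    · intro s
      exact hl _ _ (h3 s)
    · intro s
      exact toUnit_unique _ _
    · intro s m hm _
      exact hl' _ _ (h3 s) m hm

theorem isKernel_bc {S' : Scheme.{u}} (t : S' ⟶ S) {N G H : Over S} [GrpObj H] {i : N ⟶ G} {u : G ⟶ H}
    (h : AlgGrp.IsKernel i u) :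
    AlgGrp.IsKernel (Q := Red.bc t H) ((Over.pullback t).map i) ((Over.pullback t).map u) := by
  rw [isKernel_iff] at h ⊢
  obtain ⟨h1, h2⟩ := h
  refine ⟨?_, fun T g hg => ?_⟩
  · rw [← Functor.map_comp, h1, Functor.map_one]
  · have h3 : (bcEquiv t T G).symm g ≫ u = 1 := by
      rw [← bcEquiv_symm_comp, hg]
      exact (bcEquiv t T H).symm_apply_eq.mpr (bcEquiv_one t).symm
    obtain ⟨y, hy, hy'⟩ := h2 _ _ h3
    refine ⟨bcEquiv t T N y, ?_, fun y' h' => ?_⟩
    · change bcEquiv t T N y ≫ (Over.pullback t).map i = g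
      rw [← bcEquiv_comp, hy, Equiv.apply_symm_apply]
    · have h4 := hy' ((bcEquiv t T N).symm y') (by
        change (bcEquiv t T N).symm y' ≫ i = (bcEquiv t T G).symm g
        rw [← bcEquiv_symm_comp, show y' ≫ (Over.pullback t).map i = g from h'])
      rw [← h4, Equiv.apply_symm_apply]

/-- Two kernels are isomorphic -/
theorem exists_iso {N N' G H : Over S} [GrpObj H] {i : N ⟶ G} {i' : N' ⟶ G} {u : G ⟶ H}
    (h : AlgGrp.IsKernel i u) (h' : AlgGrp.IsKernel i' u) : ∃ e : N ≅ N', e.hom ≫ i' = i :=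
  ⟨IsPullback.isoIsPullback _ _ h h', IsPullback.isoIsPullback_hom_fst _ _ h h'⟩

theorem isKernel_kerι {G H : Over S} [GrpObj H] (u : G ⟶ H) [GrpObj G] :
    AlgGrp.IsKernel (kerι u) u := isPullback_ker u

/-- `u_s` is locally quasi-finite if the base change of `u` to some point above `s` is. -/
theorem lqf_fibreHom {G H : Over S} (u : G ⟶ H) [LocallyOfFiniteType u.left] [QuasiCompact u.left]
    (s : S) {K : Type u}
    [Field K] (x : Spec (CommRingCat.of K) ⟶ S) (hx : x (IsLocalRing.closedPoint K) = s)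
    [LocallyQuasiFinite ((Over.pullback x).map u).left] :
    LocallyQuasiFinite (SGA7.fibreHom s u).left := by
  have hsqs := Groth.Agent.Sga3C.ActBase.isPullback_map_left (S.fromSpecResidueField s) u
  have hsqx := Groth.Agent.Sga3C.ActBase.isPullback_map_left x u
  have hlft : LocallyOfFiniteType (SGA7.fibreHom s u).left :=
    MorphismProperty.of_isPullback (P := @LocallyOfFiniteType) hsqs.flip inferInstance
  have hqc : QuasiCompact ((Over.pullback x).map u).left :=
    MorphismProperty.of_isPullback (P := @QuasiCompact) hsqx.flip inferInstance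
  refine LocallyQuasiFinite.of_finite_preimage_singleton _ fun h => ?_
  -- the image of `h` in `H`
  let h0 : H.left := pullback.fst H.hom (S.fromSpecResidueField s) h
  have hh0 : H.hom h0 = s := by
    change H.hom (pullback.fst H.hom (S.fromSpecResidueField s) h) = s
    rw [← Scheme.Hom.comp_apply, pullback.condition, Scheme.Hom.comp_apply]
    exact Scheme.fromSpecResidueField_apply _ _
  obtain ⟨hbar, hb1, hb2⟩ := Scheme.Pullback.exists_preimage_pullback (f := H.hom) (g := x) h0
    (IsLocalRing.closedPoint K) (by rw [hh0, hx])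
  have hfin : (u.left ⁻¹' {h0}).Finite := by
    refine Set.Finite.subset (((((Over.pullback x).map u).left).finite_preimage_singleton hbar).image
      (pullback.fst G.hom x)) ?_
    intro g hg
    have hg' : u.left g = pullback.fst H.hom x hbar := by rw [hb1]; exact hg
    obtain ⟨z, hz1, hz2⟩ := Scheme.exists_preimage_of_isPullback hsqx hbar g hg'.symm
    exact ⟨z, hz1, hz2⟩
  refine Set.Finite.of_injOn (f := pullback.fst G.hom (S.fromSpecResidueField s))
    (t := u.left ⁻¹' {h0}) ?_ ?_ hfin
  · intro g hg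
    change u.left (pullback.fst G.hom (S.fromSpecResidueField s) g) = h0
    rw [← Scheme.Hom.comp_apply, ← hsqs.w, Scheme.Hom.comp_apply]
    rw [show (SGA7.fibreHom s u).left g = h from hg]
  · exact (pullback.fst G.hom (S.fromSpecResidueField s)).injective.injOn

end Groth.Agent.Sga7.H760.KerBc
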