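import Mathlib.RingTheory.AdjoinRoot
import Mathlib.Algebra.Polynomial.Taylor
import Mathlib.Algebra.Polynomial.HasseDeriv

/-!
# Polynomials whose zero locus is a subgroup of the additive group are additive

`aeval_add` : let `f` be a monic polynomial over a field `k` with `f 0 = 0` such that the zeros of
`f` in all `k`-algebras are closed under addition.  Then `f (r + s) = f r + f s` in all
`k`-algebras.
-/

set_option autoImplicit false
universe u v
open Polynomial

namespace Groth.Agent.Sga7.H760.AddPoly

variable {k : Type u} [Field k]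

/-- `f(X + Y) - f(X) - f(Y)`, as a polynomial in `Y` over `k[X]`. -/
noncomputable def defect (f : k[X]) : k[X][X] :=
  taylor (X : k[X]) (f.map C) - C f - f.map C

lemma coeff_defect (f : k[X]) (i : ℕ) :
    (defect f).coeff i = hasseDeriv i f - (if i = 0 then f else 0) - C (f.coeff i) := by
  have h : (hasseDeriv i (f.map (C : k →+* k[X]))).eval (X : k[X]) = hasseDeriv i f := by
    have h1 : hasseDeriv i (f.map (C : k →+* k[X])) = (hasseDeriv i f).map C := by
      ext m
      simp [hasseDeriv_coeff, coeff_map]
    rw [h1, eval_map, eval₂_C_X]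
  rw [defect, coeff_sub, coeff_sub, taylor_coeff, h, coeff_C, coeff_map]

lemma aeval_defect (f : k[X]) {R : Type v} [CommRing R] [Algebra k R] (r s : R) :
    eval₂ (aeval r : k[X] →ₐ[k] R).toRingHom s (defect f) = aeval (s + r) f - aeval r f - aeval s f := by
  have h1 : ((aeval r : k[X] →ₐ[k] R).toRingHom).comp (C : k →+* k[X]) = algebraMap k R := by
    ext a; simp
  rw [defect, eval₂_sub, eval₂_sub, eval₂_C, eval₂_map, h1, taylor_apply, eval₂_comp, eval₂_add,
    eval₂_X, eval₂_C, eval₂_map, h1]
  simp [aeval_def]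

theorem defect_eq_zero {f : k[X]} (hf : f.Monic) (h0 : f.eval 0 = 0)
    (h : ∀ (R : Type u) [CommRing R] [Algebra k R] (r s : R), aeval r f = 0 → aeval s f = 0 →
      aeval (r + s) f = 0) : defect f = 0 := by
  have hn : 0 < f.natDegree := by
    rw [Nat.pos_iff_ne_zero]
    intro h1
    rw [hf.natDegree_eq_zero.mp h1, eval_one] at h0
    exact one_ne_zero h0
  have hdeg : ∀ i, ((defect f).coeff i).degree < f.degree := by
    intro i
    rw [coeff_defect, degree_eq_natDegree hf.ne_zero]
    rcases Nat.eq_zero_or_pos i with rfl | hi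
    · simp only [hasseDeriv_zero, LinearMap.id_coe, id_eq, if_true, sub_self, zero_sub, degree_neg]
      refine lt_of_le_of_lt degree_C_le ?_
      exact_mod_cast hn
    · rw [if_neg (by omega), sub_zero]
      refine lt_of_le_of_lt (degree_sub_le _ _) (max_lt ?_ ?_)
      · refine lt_of_le_of_lt degree_le_natDegree ?_
        have := natDegree_hasseDeriv_le f i
        exact_mod_cast (by omega : (hasseDeriv i f).natDegree < f.natDegree)
      · refine lt_of_le_of_lt degree_C_le ?_
        exact_mod_cast hn
  have hco : ∀ i, f.natDegree ≤ i → (defect f).coeff i = 0 := by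
    intro i hi
    rw [coeff_defect, if_neg (by omega), sub_zero]
    rcases hi.eq_or_lt with rfl | hi
    · rw [hasseDeriv_natDegree_eq_C, leadingCoeff, sub_self]
    · rw [hasseDeriv_eq_zero_of_lt_natDegree _ _ hi, coeff_eq_zero_of_natDegree_lt hi, C_0, sub_self]
  have hnt : Nontrivial (AdjoinRoot f) := AdjoinRoot.nontrivial f (by
    rw [degree_eq_natDegree hf.ne_zero]; exact_mod_cast hn.ne')
  let fb : (AdjoinRoot f)[X] := f.map (algebraMap k (AdjoinRoot f))
  have hfb : fb.Monic := hf.map _
  have hfbdeg : fb.degree = f.natDegree := by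
    rw [hf.degree_map, degree_eq_natDegree hf.ne_zero]
  let R := AdjoinRoot fb
  let x : R := algebraMap (AdjoinRoot f) R (AdjoinRoot.root f)
  let y : R := AdjoinRoot.root fb
  have hx : aeval x f = 0 := by
    have : aeval x f = algebraMap (AdjoinRoot f) R (aeval (AdjoinRoot.root f) f) :=
      aeval_algebraMap_apply R (AdjoinRoot.root f) f
    rw [this, AdjoinRoot.aeval_eq, AdjoinRoot.mk_self, map_zero]
  have hy : aeval y f = 0 := by
    have h1 : aeval y fb = 0 := by rw [AdjoinRoot.aeval_eq, AdjoinRoot.mk_self]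
    rwa [aeval_map_algebraMap] at h1
  have hxy := h R y x hy hx
  have h2 := aeval_defect f x y
  rw [hxy, hx, hy, sub_zero, sub_zero] at h2
  have h3 : AdjoinRoot.mk fb ((defect f).map (AdjoinRoot.mk f)) = 0 := by
    rw [← AdjoinRoot.aeval_eq, aeval_def, eval₂_map, ← h2]
    congr 1
    ext a
    · simp; rfl
    · simp [x]; rfl
  rw [AdjoinRoot.mk_eq_zero] at h3
  have h4 : (defect f).map (AdjoinRoot.mk f) = 0 := by
    by_contra hne
    refine hfb.not_dvd_of_degree_lt hne ?_ h3
    rw [hfbdeg]
    refine lt_of_le_of_lt (degree_map_le) ?_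
    rw [degree_lt_iff_coeff_zero]
    exact hco
  ext1 i
  have h5 : AdjoinRoot.mk f ((defect f).coeff i) = 0 := by
    rw [← coeff_map, h4, coeff_zero]
  rw [AdjoinRoot.mk_eq_zero] at h5
  rw [coeff_zero]
  by_contra hne
  exact hf.not_dvd_of_degree_lt hne (hdeg i) h5

/-- A monic polynomial whose zeros form a subgroup is additive. -/
theorem aeval_add {f : k[X]} (hf : f.Monic) (h0 : f.eval 0 = 0)
    (h : ∀ (R : Type u) [CommRing R] [Algebra k R] (r s : R), aeval r f = 0 → aeval s f = 0 →
      aeval (r + s) f = 0) {R : Type v} [CommRing R] [Algebra k R] (r s : R) :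
    aeval (r + s) f = aeval r f + aeval s f := by
  have h1 := aeval_defect f s r
  rw [defect_eq_zero hf h0 h, eval₂_zero] at h1
  linear_combination -h1

end Groth.Agent.Sga7.H760.AddPoly
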