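import Groth.Agent.S1449
import Mathlib.AlgebraicGeometry.Morphisms.FlatMono

/-!
# Trivial fibres of a flat quasi-finite scheme with a section

`f : X ⟶ S` flat, locally quasi-finite, quasi-compact, separated, locally of finite presentation,
with a section.  If the fibre of `f` at a generization of a point is trivial, so is the fibre at
this point.
-/

set_option autoImplicit false
universe u
open CategoryTheory AlgebraicGeometry Limits

namespace Groth.Agent.Sga7.H760.EndStep

theorem isIso_of_rank_lt {L : Type u} [Field L] {X : Scheme.{u}} (p : X ⟶ Spec (CommRingCat.of L))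
    [IsAffine X] (e : Spec (CommRingCat.of L) ⟶ X) (he : e ≫ p = 𝟙 _)
    (h : letI := ((Scheme.ΓSpecIso (CommRingCat.of L)).inv ≫ p.appTop).hom.toAlgebra
        Module.rank L (Γ(X, ⊤) : Type u) < 2) : IsIso p := by
  let _ := ((Scheme.ΓSpecIso (CommRingCat.of L)).inv ≫ p.appTop).hom.toAlgebra
  have h1 : Module.rank L (Γ(X, ⊤) : Type u) ≤ 1 := by
    obtain ⟨n, hn⟩ := Cardinal.lt_aleph0.mp (h.trans (Cardinal.natCast_lt_aleph0 (n := 2)))
    rw [hn] at h ⊢
    have h2 : n < 2 := by exact_mod_cast h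
    exact_mod_cast Nat.lt_succ_iff.mp h2
  obtain ⟨v, hv⟩ := rank_le_one_iff.mp h1
  let φ : L →+* (Γ(X, ⊤) : Type u) := ((Scheme.ΓSpecIso (CommRingCat.of L)).inv ≫ p.appTop).hom
  let ρ : (Γ(X, ⊤) : Type u) →+* L := (e.appTop ≫ (Scheme.ΓSpecIso (CommRingCat.of L)).hom).hom
  have hρ : ∀ a : L, ρ (φ a) = a := by
    intro a
    have h3 : ((Scheme.ΓSpecIso (CommRingCat.of L)).inv ≫ p.appTop) ≫
        (e.appTop ≫ (Scheme.ΓSpecIso (CommRingCat.of L)).hom) = 𝟙 _ := by
      rw [Category.assoc, ← Category.assoc p.appTop, ← Scheme.Hom.comp_appTop, he,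
        Scheme.Hom.id_appTop, Category.id_comp, Iso.inv_hom_id]
    exact congr(CommRingCat.Hom.hom $h3 a)
  have hinj : Function.Injective φ := fun a b hab => by rw [← hρ a, hab, hρ]
  have hsurj : Function.Surjective φ := by
    intro b
    obtain ⟨r1, hr1⟩ := hv 1
    obtain ⟨rb, hrb⟩ := hv b
    have e1 : φ r1 * v = 1 := hr1
    have e2 : φ rb * v = b := hrb
    refine ⟨rb * r1⁻¹, ?_⟩
    have h0 : r1 ≠ 0 := by
      rintro rfl
      rw [map_zero, zero_mul] at e1
      have := congrArg ρ e1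
      rw [map_zero, map_one] at this
      exact one_ne_zero this.symm
    have e3 : φ r1⁻¹ = v := by
      have h5 : φ r1⁻¹ * φ r1 = 1 := by rw [← map_mul, inv_mul_cancel₀ h0, map_one]
      calc φ r1⁻¹ = φ r1⁻¹ * (φ r1 * v) := by rw [e1, mul_one]
        _ = v := by rw [← mul_assoc, h5, one_mul]
    rw [map_mul, e3, e2]
  have h6 : IsIso ((Scheme.ΓSpecIso (CommRingCat.of L)).inv ≫ p.appTop) :=
    (ConcreteCategory.isIso_iff_bijective _).mpr ⟨hinj, hsurj⟩
  have h7 : IsIso p.appTop := IsIso.of_isIso_comp_left (Scheme.ΓSpecIso (CommRingCat.of L)).inv _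
  have h8 : (MorphismProperty.isomorphisms Scheme) p := by
    rw [HasAffineProperty.iff_of_isAffine (P := MorphismProperty.isomorphisms Scheme)]
    exact ⟨inferInstance, h7⟩
  exact h8

theorem not_le_rank_of_isIso {L : Type u} [Field L] {X : Scheme.{u}} (p : X ⟶ Spec (CommRingCat.of L))
    [IsIso p] : ¬ letI := ((Scheme.ΓSpecIso (CommRingCat.of L)).inv ≫ p.appTop).hom.toAlgebra
        ((2 : ℕ) : Cardinal.{u}) ≤ Module.rank L (Γ(X, ⊤) : Type u) := by
  let _ := ((Scheme.ΓSpecIso (CommRingCat.of L)).inv ≫ p.appTop).hom.toAlgebra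
  have h5 : IsIso p.appTop := inferInstanceAs (IsIso (p.app ⊤))
  have h6 : IsIso ((Scheme.ΓSpecIso (CommRingCat.of L)).inv ≫ p.appTop) := inferInstance
  have h7 := (ConcreteCategory.isIso_iff_bijective _).mp h6
  have h8 : Module.rank L (Γ(X, ⊤) : Type u) ≤ 1 := by
    refine rank_le_one_iff.mpr ⟨1, fun b => ?_⟩
    obtain ⟨a, ha⟩ := h7.2 b
    refine ⟨a, ?_⟩
    rw [Algebra.smul_def, mul_one]
    exact ha
  intro h9
  have h10 := h9.trans h8
  have : 2 ≤ 1 := by exact_mod_cast h10
  omega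

/-- If the fibre at a generization is trivial, then the fibre is trivial. -/
theorem isIso_of_specializes {X S : Scheme.{u}} (f : X ⟶ S) [Flat f] [LocallyOfFinitePresentation f]
    [IsSeparated f] [LocallyQuasiFinite f] [QuasiCompact f] (e : S ⟶ X) (he : e ≫ f = 𝟙 S)
    {K L : Type u} [Field K] [Field L] (g : Spec (CommRingCat.of L) ⟶ S)
    (g' : Spec (CommRingCat.of K) ⟶ S) (hg : g' (IsLocalRing.closedPoint K) ⤳
      g (IsLocalRing.closedPoint L)) [IsIso (pullback.snd f g')] : IsIso (pullback.snd f g) := by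
  obtain ⟨U, -, -, hU⟩ := Groth.Agent.S1449.result f
  have h1 : ¬ Set.range g' ⊆ (U 2 : Set S) := fun h =>
    not_le_rank_of_isIso (pullback.snd f g') ((hU K g' 2).mp h)
  have h2 : ¬ Set.range g ⊆ (U 2 : Set S) := by
    intro h
    apply h1
    rintro _ ⟨x, rfl⟩
    have hx : x = IsLocalRing.closedPoint K := Subsingleton.elim (α := PrimeSpectrum K) _ _
    rw [hx]
    exact hg.mem_open (U 2).2 (h ⟨_, rfl⟩)
  have h3 := (not_congr (hU L g 2)).mp h2
  rw [not_le] at h3
  have h4 : IsFinite (pullback.snd f g) := IsFinite.of_locallyQuasiFinite _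
  have h5 : IsAffine (pullback f g) := isAffine_of_isAffineHom (pullback.snd f g)
  refine isIso_of_rank_lt (pullback.snd f g) (pullback.lift (g ≫ e) (𝟙 _)
    (by rw [Category.assoc, he, Category.comp_id, Category.id_comp])) (pullback.lift_snd _ _ _) h3

end Groth.Agent.Sga7.H760.EndStep
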