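import Groth.Agent.Sga7.H760.AddPoly
import Groth.Agent.Sga3B.RootHomDict
import Groth.Agent.Books.AntiAffine
import Groth.Agent.S3036
import Mathlib.AlgebraicGeometry.EffectiveEpi
import Mathlib.AlgebraicGeometry.Sites.Fpqc
import Mathlib.RingTheory.Flat.TorsionFree

/-!
# A nontrivial homomorphism from the additive group over a field

`exists_isClosedImmersion`: let `k` be a field, `G` a group scheme locally of finite type over `k`
and `j : 𝔾_a ⟶ G` a nontrivial homomorphism.  Then there is a homomorphism `𝔾_a ⟶ G` which is a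
closed immersion.

The kernel of `j` is the zero locus of an additive polynomial `f`, and `j` factors through
`f : 𝔾_a ⟶ 𝔾_a`.
-/

set_option autoImplicit false
universe u
open CategoryTheory MonoidalCategory CartesianMonoidalCategory MonObj GrpObj AlgebraicGeometry Limits
open scoped TensorProduct Polynomial

namespace Groth.Agent.Sga7.H760.GaQuot

open Groth.Agent.Books.AffBridge Groth.Agent.Sga3B Groth.Agent.Sga3B.GaPts
  Groth.Agent.Sga3B.AffPts Groth.Agent.Sga3B.RootHomDict

variable {k : Type u} [Field k]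

/-- the point of `𝔾_a` with coordinate `a` -/
noncomputable def pt (T : Over (Spec (CommRingCat.of k))) (a : Fn T) :
    T ⟶ Red.Ga (Spec (CommRingCat.of k)) := gaPt T a

lemma pt_add (T : Over (Spec (CommRingCat.of k))) (a b : Fn T) : pt T (a + b) = pt T a * pt T b :=
  gaPt_add T a b

lemma comp_pt {T T' : Over (Spec (CommRingCat.of k))} (h : T' ⟶ T) (a : Fn T) :
    h ≫ pt T a = pt T' (fnMap h a) := comp_gaPt h a

lemma pt_injective (T : Over (Spec (CommRingCat.of k))) : Function.Injective (pt T) := by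
  intro a b h
  have := congrArg Red.gaFn h
  rwa [pt, pt, gaFn_gaPt, gaFn_gaPt] at this

lemma pt_surjective {T : Over (Spec (CommRingCat.of k))}
    (x : T ⟶ Red.Ga (Spec (CommRingCat.of k))) : ∃ a : Fn T, pt T a = x :=
  ⟨Red.gaFn x, gaPt_gaFn T x⟩

lemma pt_zero (T : Over (Spec (CommRingCat.of k))) : pt T 0 = 1 := by
  have h : gaPt T (Red.gaFn (1 : T ⟶ Red.Ga (Spec (CommRingCat.of k)))) = 1 := gaPt_gaFn T 1
  rw [gaFn_one] at h
  exact h

lemma pt_eq (T : Over (Spec (CommRingCat.of k))) (a : Fn T) :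
    pt T a = affPt T (Polynomial.aeval a) ≫ gaFrom := by
  have h := comp_gaTo (pt T a)
  rw [show Red.gaFn (pt T a) = a from gaFn_gaPt T a] at h
  rw [← h, Category.assoc, gaTo_gaFrom, Category.comp_id]

/-- The kernel of a homomorphism from the additive group is defined by an ideal of `k[X]`. -/
theorem exists_ideal {G : Over (Spec (CommRingCat.of k))} [GrpObj G]
    (j : Red.Ga (Spec (CommRingCat.of k)) ⟶ G) :
    ∃ I : Ideal k[X], ∀ (T : Over (Spec (CommRingCat.of k))) (a : Fn T),
      pt T a ≫ j = 1 ↔ ∀ p ∈ I, Polynomial.aeval a p = 0 := by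
  have hsep : IsSeparated G.hom := Groth.Agent.Books.AntiAffine.isSeparated_hom G
  let η' : Spec (CommRingCat.of k) ⟶ G.left := (η[G] : 𝟙_ (Over (Spec (CommRingCat.of k))) ⟶ G).left
  have hη' : η' ≫ G.hom = 𝟙 _ := Over.w (η[G] : 𝟙_ (Over (Spec (CommRingCat.of k))) ⟶ G)
  have hcl : IsClosedImmersion η' := by
    have : IsClosedImmersion (η' ≫ G.hom) := by rw [hη']; infer_instance
    exact IsClosedImmersion.of_comp η' G.hom
  let w : Spec (CommRingCat.of k[X]) ⟶ G.left := ((gaFrom : SpecOver k k[X] ⟶ _) ≫ j).left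
  have hw : w ≫ G.hom = Spec.map (CommRingCat.ofHom (algebraMap k k[X])) :=
    Over.w ((gaFrom : SpecOver k k[X] ⟶ _) ≫ j)
  have hone : ∀ T : Over (Spec (CommRingCat.of k)), (1 : T ⟶ G).left = T.hom ≫ η' := by
    intro T
    rw [Hom.one_def, Over.comp_left]
    rfl
  obtain ⟨I, e, he⟩ := IsClosedImmersion.Spec_iff.mp
    (inferInstance : IsClosedImmersion (pullback.fst w η'))
  refine ⟨I, fun T a => ?_⟩
  have hx : (pt T a ≫ j).left = (affPt T (Polynomial.aeval a : k[X] →ₐ[k] Fn T)).left ≫ w := by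
    rw [pt_eq, Category.assoc, Over.comp_left]
  constructor
  · intro h p hp
    have h1 : (affPt T (Polynomial.aeval a : k[X] →ₐ[k] Fn T)).left ≫ w = T.hom ≫ η' := by
      rw [← hx, h, hone]
    let l : T.left ⟶ pullback w η' := pullback.lift _ _ h1
    have h2 : (affPt T (Polynomial.aeval a : k[X] →ₐ[k] Fn T)).left =
        (l ≫ e.hom) ≫ Spec.map (CommRingCat.ofHom (Ideal.Quotient.mk I)) := by
      rw [Category.assoc, ← he]
      exact (pullback.lift_fst _ _ h1).symm
    obtain ⟨f, hf⟩ := (ΓSpec.adjunction.homEquiv T.left (.op (.of (k[X] ⧸ I)))).surjective (l ≫ e.hom)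
    have hf' : T.left.toSpecΓ ≫ Spec.map f.unop = l ≫ e.hom := hf
    have h3 : T.left.toSpecΓ ≫ Spec.map (CommRingCat.ofHom
        (Polynomial.aeval a : k[X] →ₐ[k] Fn T).toRingHom) =
        T.left.toSpecΓ ≫ Spec.map (CommRingCat.ofHom (Ideal.Quotient.mk I) ≫ f.unop) := by
      rw [Spec.map_comp, ← Category.assoc, hf']
      exact h2
    have h4 := (ΓSpec.adjunction.homEquiv T.left (.op (.of k[X]))).injective
       (a₁ := (CommRingCat.ofHom (Polynomial.aeval a : k[X] →ₐ[k] Fn T).toRingHom).op)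
       (a₂ := (CommRingCat.ofHom (Ideal.Quotient.mk I) ≫ f.unop).op) h3
    have h5 := congr(CommRingCat.Hom.hom $(Quiver.Hom.op_inj h4) p)
    have h6 : (CommRingCat.ofHom (Ideal.Quotient.mk I) ≫ f.unop).hom p = 0 := by
      rw [CommRingCat.hom_comp, RingHom.comp_apply]
      change f.unop.hom (Ideal.Quotient.mk I p) = 0
      rw [Ideal.Quotient.eq_zero_iff_mem.mpr hp, map_zero]
    exact h5.trans h6
  · intro h
    let ψ : (k[X] ⧸ I) →ₐ[k] Fn T := Ideal.Quotient.liftₐ I (Polynomial.aeval a) h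
    have h1 : (Polynomial.aeval a : k[X] →ₐ[k] Fn T) = ψ.comp (Ideal.Quotient.mkₐ k I) := by
      ext; simp [ψ]
    have h2 : affPt T (Polynomial.aeval a : k[X] →ₐ[k] Fn T) =
        affPt T ψ ≫ specMap k (Ideal.Quotient.mkₐ k I) := by
      rw [affPt_specMap, ← h1]
    let m : Spec (CommRingCat.of (k[X] ⧸ I)) ⟶ Spec (CommRingCat.of k[X]) :=
      Spec.map (CommRingCat.ofHom (Ideal.Quotient.mk I))
    have h4 : m = e.inv ≫ pullback.fst w η' := by
      rw [he, Iso.inv_hom_id_assoc]
    have h5 : m ≫ w = (e.inv ≫ pullback.snd w η') ≫ η' := by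
      rw [h4, Category.assoc, Category.assoc, pullback.condition]
    have h6 : e.inv ≫ pullback.snd w η' =
        Spec.map (CommRingCat.ofHom (algebraMap k (k[X] ⧸ I))) := by
      have h7 := congr($h5 ≫ G.hom)
      rw [Category.assoc, Category.assoc, hη', Category.comp_id, hw, ← Spec.map_comp] at h7
      exact h7.symm
    have h3 : specMap k (Ideal.Quotient.mkₐ k I) ≫ (gaFrom ≫ j) = 1 := by
      ext1
      rw [hone]
      change m ≫ w = Spec.map (CommRingCat.ofHom (algebraMap k (k[X] ⧸ I))) ≫ η'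
      rw [← h6, h5]
    rw [pt_eq, h2, Category.assoc, Category.assoc, h3, MonObj.comp_one]

lemma aeval_fnSpec_symm {R : Type u} [CommRing R] [Algebra k R] (r : R) (f : k[X]) :
    Polynomial.aeval ((fnSpec (R := k) R).symm r) f = (fnSpec (R := k) R).symm (Polynomial.aeval r f) :=
  Polynomial.aeval_algHom_apply (fnSpec (R := k) R).symm.toAlgHom r f

/-- The kernel of a nontrivial homomorphism from the additive group is defined by an additive
polynomial. -/
theorem exists_additive {G : Over (Spec (CommRingCat.of k))} [GrpObj G]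
    (j : Red.Ga (Spec (CommRingCat.of k)) ⟶ G) [IsMonHom j] (hj : j ≠ 1) :
    ∃ f : k[X], f.Monic ∧ 0 < f.natDegree ∧
      (∀ (T : Over (Spec (CommRingCat.of k))) (a : Fn T), pt T a ≫ j = 1 ↔ Polynomial.aeval a f = 0) ∧
      ∀ (R : Type u) [CommRing R] [Algebra k R] (r s : R),
        Polynomial.aeval (r + s) f = Polynomial.aeval r f + Polynomial.aeval s f := by
  obtain ⟨I, hI⟩ := exists_ideal j
  obtain ⟨f0, hf0⟩ : ∃ f0 : k[X], I = Ideal.span {f0} := by
    obtain ⟨f0, hf0⟩ := IsPrincipalIdealRing.principal I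
    exact ⟨f0, hf0⟩
  have hne : f0 ≠ 0 := by
    rintro rfl
    obtain ⟨a, ha⟩ := pt_surjective (𝟙 (Red.Ga (Spec (CommRingCat.of k))))
    have h1 := (hI _ a).mpr (fun p hp => by
      rw [hf0, Ideal.mem_span_singleton, zero_dvd_iff] at hp
      rw [hp, map_zero])
    rw [ha, Category.id_comp] at h1
    exact hj h1
  let f : k[X] := f0 * Polynomial.C f0.leadingCoeff⁻¹
  have hmon : f.Monic := Polynomial.monic_mul_leadingCoeff_inv hne
  have hker : ∀ (T : Over (Spec (CommRingCat.of k))) (a : Fn T),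
      pt T a ≫ j = 1 ↔ Polynomial.aeval a f = 0 := by
    intro T a
    rw [hI]
    constructor
    · intro h
      refine h f ?_
      rw [hf0]
      exact Ideal.mul_mem_right _ _ (Ideal.mem_span_singleton_self f0)
    · intro h p hp
      rw [hf0, Ideal.mem_span_singleton] at hp
      obtain ⟨q, rfl⟩ := hp
      have h2 : f0 = f * Polynomial.C f0.leadingCoeff := by
        rw [_root_.mul_assoc, ← Polynomial.C_mul,
          inv_mul_cancel₀ (Polynomial.leadingCoeff_ne_zero.mpr hne), Polynomial.C_1, _root_.mul_one]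
      rw [h2, map_mul, map_mul, h, zero_mul, zero_mul]
  have h0 : f.eval 0 = 0 := by
    have h1 := (hker (SpecOver k k[X]) 0).mp (by rw [pt_zero, MonObj.one_comp])
    have h2 : (fnSpec (R := k) k[X]).symm (Polynomial.aeval 0 f) = 0 := by
      rw [← aeval_fnSpec_symm, map_zero]; exact h1
    have h3 : Polynomial.aeval (0 : k[X]) f = 0 := by
      rw [← map_zero (fnSpec (R := k) k[X]).symm] at h2
      exact (fnSpec (R := k) k[X]).symm.injective h2
    have h4 := Polynomial.aeval_algebraMap_apply k[X] (0 : k) f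
    rw [map_zero, h3, Polynomial.coe_aeval_eq_eval] at h4
    exact Polynomial.C_eq_zero.mp h4.symm
  have hpos : 0 < f.natDegree := by
    rw [Nat.pos_iff_ne_zero]
    intro h1
    rw [hmon.natDegree_eq_zero.mp h1, Polynomial.eval_one] at h0
    exact one_ne_zero h0
  refine ⟨f, hmon, hpos, hker, fun R _ _ r s => AddPoly.aeval_add hmon h0 ?_ r s⟩
  intro R _ _ r s hr hs
  have key : ∀ r : R, Polynomial.aeval r f = 0 ↔
      pt (SpecOver k R) ((fnSpec (R := k) R).symm r) ≫ j = 1 := by
    intro r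
    rw [hker, aeval_fnSpec_symm]
    exact (map_eq_zero_iff _ (fnSpec (R := k) R).symm.injective).symm
  rw [key] at hr hs ⊢
  rw [map_add, pt_add, MonObj.mul_comp, hr, hs, _root_.mul_one]

section phi

variable {f : k[X]}

/-- The endomorphism `a ↦ f(a)` of the additive group (`f` additive). -/
noncomputable def phi (f : k[X]) : Red.Ga (Spec (CommRingCat.of k)) ⟶ Red.Ga (Spec (CommRingCat.of k)) :=
  pt _ (Polynomial.aeval (R := k) (A := Fn (Red.Ga (Spec (CommRingCat.of k))))
    (Red.gaFn (𝟙 (Red.Ga (Spec (CommRingCat.of k))))) f)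

lemma pt_phi (T : Over (Spec (CommRingCat.of k))) (a : Fn T) :
    pt T a ≫ phi f = pt T (Polynomial.aeval a f) := by
  rw [phi, comp_pt, ← Polynomial.aeval_algHom_apply, gaFn_eq, show Red.gaFn (pt T a) = a from gaFn_gaPt T a]

lemma phi_gaTo : phi f ≫ gaTo = gaTo ≫ specMap k (Polynomial.aeval f : k[X] →ₐ[k] k[X]) := by
  rw [comp_gaTo, gaTo, affPt_specMap]
  congr 1
  ext
  rw [Polynomial.aeval_X, AlgHom.comp_apply, Polynomial.aeval_X]
  exact gaFn_gaPt _ _

end phi

end Groth.Agent.Sga7.H760.GaQuot
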