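import Groth.Agent.Sga7.H760.KerBc

/-!
# Flatness and quasi-finiteness of a homomorphism over a neighbourhood

`u : G ⟶ H` a homomorphism of group schemes over `S`, `G` flat of finite presentation.

* `exists_open_flat`, `flat_map` ;
* `exists_open_lqf`.
-/

set_option autoImplicit false
universe u
open CategoryTheory MonoidalCategory CartesianMonoidalCategory MonObj GrpObj AlgebraicGeometry Limits

namespace Groth.Agent.Sga7.H760.Nhd

open Groth.Agent.Sga3C.FlatPt Groth.Agent.Sga3B.KerGrp Groth.Agent.Sga3B.BcPts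
  Groth.Agent.Sga7.H760.KerBc Groth.Agent.Sga7.H760.FibreFlat

/-- A Noetherian scheme of dimension `≤ 0` is finite. -/
theorem finite_of_krullDim_le_zero {X : Scheme.{u}} [IsNoetherian X]
    (h : topologicalKrullDim X ≤ 0) : Finite X := by
  have hX : topologicalKrullDim X = Order.krullDim X :=
    Order.krullDim_eq_of_orderIso irreducibleSetEquivPoints
  rw [hX] at h
  have hmax := Order.krullDim_nonpos_iff_forall_isMax.mp h
  have hfin : (irreducibleComponents X).Finite :=
    TopologicalSpace.NoetherianSpace.finite_irreducibleComponents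
  have : Finite (irreducibleComponents X) := hfin
  let c : X → irreducibleComponents X := fun x =>
    ⟨irreducibleComponent x, irreducibleComponent_mem_irreducibleComponents x⟩
  refine Finite.of_injective c ?_
  intro x y hxy
  have hxy' : irreducibleComponent x = irreducibleComponent y := congrArg Subtype.val hxy
  obtain ⟨ξ, hξ⟩ := QuasiSober.sober (isIrreducible_irreducibleComponent (x := x))
    isClosed_irreducibleComponent
  have h1 : ξ ⤳ x := hξ.specializes mem_irreducibleComponent
  have h2 : ξ ⤳ y := hξ.specializes (by rw [hxy']; exact mem_irreducibleComponent)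
  have h3 : ∀ z : X, ξ ⤳ z → z = ξ := by
    intro z hz
    have h4 : ξ ≤ z := hmax z (show z ≤ ξ from hz)
    have h5 : z ⤳ ξ := h4
    exact (h5.antisymm hz).eq
  rw [h3 x h1, h3 y h2]

variable {S : Scheme.{u}} {G H : Over S} [GrpObj G] [GrpObj H]

/-- if `u` is flat at the points of `G` over `U`, then `u` is flat over `U`. -/
theorem flat_map {G H : Over S} (u : G ⟶ H) {S' : Scheme.{u}} (f : S' ⟶ S)
    (h : ∀ x : G.left, G.hom x ∈ Set.range f → IsFlatAt u.left x) :
    Flat ((Over.pullback f).map u).left := by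
  refine flat_of_forall_isFlatAt _ fun z => ?_
  have hsq := Groth.Agent.Sga3C.ActBase.isPullback_map_left f u
  refine IsFlatAt.of_isPullback hsq.flip z (h _ ?_)
  refine ⟨pullback.snd G.hom f z, ?_⟩
  rw [← Scheme.Hom.comp_apply, ← pullback.condition, Scheme.Hom.comp_apply]

/-- a homomorphism is flat at all points of the fibre if it is flat at one of them -/
theorem isFlatAt_of_isFlatAt [Flat G.hom] (u : G ⟶ H) [IsMonHom u] (x y : G.left)
    (hxy : G.hom x = G.hom y) (hy : IsFlatAt u.left y) : IsFlatAt u.left x := by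
  refine Groth.Agent.Sga3C.FlatHomog.isFlatAt_of_isFlatAt u (Groth.Agent.Sga3C.GrpBasic.mulLeftShear u)
    ?_ x y hxy hy
  ext1
  · simp
  · rw [Category.assoc, Category.assoc, Groth.Agent.Sga3C.GrpBasic.mulLeftShear_hom_snd, whiskerLeft_snd,
      ← Category.assoc,
      Groth.Agent.Sga3C.GrpBasic.mulLeftShear_hom_snd, Category.comp_id, MonObj.mul_comp, comp_mul]
    simp

lemma hom_unit (G : Over S) [GrpObj G] (s : S) : G.hom ((η[G] : 𝟙_ (Over S) ⟶ G).left s) = s := by
  have h1 : (η[G] : 𝟙_ (Over S) ⟶ G).left ≫ G.hom = 𝟙 S := Over.w (η[G] : 𝟙_ (Over S) ⟶ G)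
  rw [← Scheme.Hom.comp_apply, h1]
  rfl

/-- the points of `S` over which `u` is flat -/
theorem exists_open_flat [LocallyOfFinitePresentation G.hom] [Flat G.hom] [Flat H.hom]
    [LocallyOfFiniteType H.hom] (u : G ⟶ H) [IsMonHom u] :
    ∃ U : S.Opens, (∀ x : G.left, G.hom x ∈ U ↔ IsFlatAt u.left x) := by
  let e : S ⟶ G.left := (η[G] : 𝟙_ (Over S) ⟶ G).left
  refine ⟨⟨e ⁻¹' {x | IsFlatAt u.left x}, (isOpen_flat u).preimage e.continuous⟩, fun x => ?_⟩
  change IsFlatAt u.left (e (G.hom x)) ↔ _
  constructor
  · intro h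
    exact isFlatAt_of_isFlatAt u x _ (hom_unit G _).symm h
  · intro h
    exact isFlatAt_of_isFlatAt u _ x (hom_unit G _) h

/-- the fibre of the kernel -/
theorem lqf_ker_fibre (u : G ⟶ H) [IsMonHom u] (s : S) [LocallyQuasiFinite (SGA7.fibreHom s u).left] :
    LocallyQuasiFinite (Red.bc (S.fromSpecResidueField s) (kerObj u)).hom := by
  have h1 := isKernel_bc (S.fromSpecResidueField s) (isPullback_ker u)
  obtain ⟨e, -⟩ := exists_iso h1 (isPullback_ker (SGA7.fibreHom s u))
  have h2 : LocallyQuasiFinite (kerObj (SGA7.fibreHom s u)).hom :=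
    inferInstanceAs (LocallyQuasiFinite (pullback.snd (SGA7.fibreHom s u).left _))
  have h3 : IsIso e.hom.left := inferInstance
  have h4 : (Red.bc (S.fromSpecResidueField s) (kerObj u)).hom = e.hom.left ≫
      (kerObj (SGA7.fibreHom s u)).hom := (Over.w e.hom).symm
  rw [h4]
  infer_instance

lemma lqf_snd_of_range {X S' : Scheme.{u}} (q : X ⟶ S) (f : S' ⟶ S) (U : S.Opens)
    (hf : Set.range f ⊆ U) (h : LocallyQuasiFinite (pullback.snd q U.ι)) :
    LocallyQuasiFinite (pullback.snd q f) := by
  let f' : S' ⟶ U := IsOpenImmersion.lift U.ι f (by rw [Scheme.Opens.range_ι]; exact hf)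
  have hf' : f' ≫ U.ι = f := IsOpenImmersion.lift_fac _ _ _
  let a : pullback q f ⟶ pullback q U.ι := pullback.lift (pullback.fst q f) (pullback.snd q f ≫ f')
    (by rw [Category.assoc, hf', pullback.condition])
  have h1 : a ≫ pullback.fst q U.ι = pullback.fst q f := pullback.lift_fst _ _ _
  have h2 : IsPullback a (pullback.snd q f) (pullback.snd q U.ι) f' := by
    refine IsPullback.of_right (h₁₂ := pullback.fst q U.ι) (v₁₃ := q) (h₂₂ := U.ι) ?_
      (pullback.lift_snd _ _ _) (IsPullback.of_hasPullback _ _)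
    rw [h1, hf']
    exact IsPullback.of_hasPullback _ _
  exact MorphismProperty.of_isPullback (P := @LocallyQuasiFinite) h2 h

/-- If `u_s` is locally quasi-finite, then `u` is locally quasi-finite over a neighbourhood. -/
theorem exists_open_lqf [LocallyOfFiniteType G.hom] [QuasiCompact G.hom] [LocallyOfFiniteType H.hom]
    [QuasiSeparated H.hom] (u : G ⟶ H) [IsMonHom u] (s : S)
    [LocallyQuasiFinite (SGA7.fibreHom s u).left] :
    ∃ U : S.Opens, s ∈ U ∧ ∀ {S' : Scheme.{u}} (f : S' ⟶ S), Set.range f ⊆ U →
      LocallyQuasiFinite ((Over.pullback f).map u).left := by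
  have hqc : QuasiCompact u.left := by
    have : QuasiCompact (u.left ≫ H.hom) := by rw [Over.w]; infer_instance
    exact QuasiCompact.of_comp u.left H.hom
  have hlft : LocallyOfFiniteType u.left := by
    have : LocallyOfFiniteType (u.left ≫ H.hom) := by rw [Over.w]; infer_instance
    exact locallyOfFiniteType_of_comp u.left H.hom
  let N := kerObj u
  obtain ⟨_, hι⟩ := exists_grpObj u
  have hNlft : LocallyOfFiniteType N.hom :=
    inferInstanceAs (LocallyOfFiniteType (pullback.snd u.left _))
  have hNqc : QuasiCompact N.hom := inferInstanceAs (QuasiCompact (pullback.snd u.left _))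
  let e : S ⟶ N.left := (η[N] : 𝟙_ (Over S) ⟶ N).left
  have hop : IsOpen {t : S | topologicalKrullDim (N.hom.fiber t) ≤ (0 : ℕ)} := by
    have h1 := (Groth.Agent.S0402.result N.hom 0).preimage e.continuous
    have h2 : e ⁻¹' {x | FlatMor.fibreDimAt N.hom x ≤ (0 : ℕ)} =
        {t : S | topologicalKrullDim (N.hom.fiber t) ≤ (0 : ℕ)} := by
      ext t
      change FlatMor.fibreDimAt N.hom (e t) ≤ (0 : ℕ) ↔ _
      rw [S3022.fibreDimAt_eq, show N.hom (e t) = t from hom_unit N t]
      rfl
    rwa [h2] at h1
  let U : S.Opens := ⟨_, hop⟩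
  have hfinU : ∀ t ∈ U, (N.hom ⁻¹' {t}).Finite := by
    intro t ht
    have h1 : topologicalKrullDim (N.hom.fiber t) ≤ 0 := ht
    have h2 : LocallyOfFiniteType (N.hom.fiberToSpecResidueField t) :=
      inferInstanceAs (LocallyOfFiniteType (pullback.snd N.hom (S.fromSpecResidueField t)))
    have h3 : IsLocallyNoetherian (N.hom.fiber t) :=
      LocallyOfFiniteType.isLocallyNoetherian (N.hom.fiberToSpecResidueField t)
    have h4 : CompactSpace (N.hom.fiber t) :=
      QuasiCompact.compactSpace_of_compactSpace (N.hom.fiberToSpecResidueField t)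
    have h5 : IsNoetherian (N.hom.fiber t) := {}
    have h6 := finite_of_krullDim_le_zero h1
    rw [← Scheme.Hom.range_fiberι]
    exact Set.finite_range _
  refine ⟨U, ?_, ?_⟩
  · have h1 := lqf_ker_fibre u s
    have h2 : DiscreteTopology (Red.bc (S.fromSpecResidueField s) (kerObj u)).left := by
      have h3 := (Red.bc (S.fromSpecResidueField s) (kerObj u)).hom.isDiscrete_preimage_singleton
        (IsLocalRing.closedPoint _)
      have h4 : (Red.bc (S.fromSpecResidueField s) (kerObj u)).hom ⁻¹' {IsLocalRing.closedPoint _} =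
          Set.univ := by
        ext x
        simp only [Set.mem_univ, iff_true]
        exact Subsingleton.elim (α := PrimeSpectrum (S.residueField s)) _ _
      refine isDiscrete_univ_iff.mp ?_
      convert h3
      exact h4.symm
    change topologicalKrullDim (N.hom.fiber s) ≤ 0
    have h3 : DiscreteTopology (N.hom.fiber s) := h2
    exact topologicalKrullDim_zero_of_discreteTopology _
  · intro S' f hf
    have hsq := Groth.Agent.Sga3C.ActBase.isPullback_map_left f u
    have hqc' : QuasiCompact ((Over.pullback f).map u).left :=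
      MorphismProperty.of_isPullback (P := @QuasiCompact) hsq.flip inferInstance
    have hlft' : LocallyOfFiniteType (Red.bc f G).hom :=
      inferInstanceAs (LocallyOfFiniteType (pullback.snd G.hom f))
    refine locallyQuasiFinite_of_ker (G := Red.bc f G) (H := Red.bc f H)
      ((Over.pullback f).map u) ?_
    have h1 := isKernel_bc f (isPullback_ker u)
    obtain ⟨i, -⟩ := exists_iso (isPullback_ker (G := Red.bc f G) (H := Red.bc f H)
      ((Over.pullback f).map u)) h1
    have h3 : IsIso i.hom.left := inferInstance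
    have h4 : (kerObj (G := Red.bc f G) (H := Red.bc f H) ((Over.pullback f).map u)).hom =
      i.hom.left ≫ (Red.bc f (kerObj u)).hom := (Over.w i.hom).symm
    rw [h4]
    have h5 : LocallyQuasiFinite (pullback.snd N.hom U.ι) := by
      refine LocallyQuasiFinite.of_finite_preimage_singleton _ fun t => ?_
      refine Set.Finite.of_injOn (f := pullback.fst N.hom U.ι) (t := N.hom ⁻¹' {U.ι t}) ?_ ?_
        (hfinU _ ?_)
      · intro g hg
        change N.hom (pullback.fst N.hom U.ι g) = _
        rw [← Scheme.Hom.comp_apply, pullback.condition, Scheme.Hom.comp_apply]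
        rw [show pullback.snd N.hom U.ι g = t from hg]
      · exact (pullback.fst N.hom U.ι).injective.injOn
      · exact t.2
    have h6 : LocallyQuasiFinite (Red.bc f (kerObj u)).hom :=
      lqf_snd_of_range N.hom f U hf h5
    infer_instance

/-- **P8**.  If `u_t` is an isogeny, `t ⤳ s`, and `u_s` is locally quasi-finite then `u` is flat and
locally quasi-finite over a neighbourhood of `s`. -/
theorem exists_open_flat_lqf [Flat G.hom] [LocallyOfFinitePresentation G.hom] [QuasiCompact G.hom]
    [Smooth H.hom] [QuasiSeparated H.hom] (u : G ⟶ H) [IsMonHom u] (s t : S) (hts : t ⤳ s)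
    [LocallyQuasiFinite (SGA7.fibreHom s u).left] (hiso : SGA7.IsIsogenyOver (SGA7.fibreHom t u)) :
    ∃ U : S.Opens, s ∈ U ∧ Flat ((Over.pullback U.ι).map u).left ∧
      LocallyQuasiFinite ((Over.pullback U.ι).map u).left := by
  have i1 : LocallyOfFiniteType (Red.bc (S.fromSpecResidueField t) G).hom :=
    inferInstanceAs (LocallyOfFiniteType (Limits.pullback.snd G.hom (S.fromSpecResidueField t)))
  have i2 : QuasiCompact (Red.bc (S.fromSpecResidueField t) G).hom :=
    inferInstanceAs (QuasiCompact (Limits.pullback.snd G.hom (S.fromSpecResidueField t)))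
  have i4 : LocallyOfFiniteType (Red.bc (S.fromSpecResidueField t) H).hom :=
    inferInstanceAs (LocallyOfFiniteType (Limits.pullback.snd H.hom (S.fromSpecResidueField t)))
  have h1 : LocallyQuasiFinite (SGA7.fibreHom t u).left := lqf_of_finite_ker (k := S.residueField t)
    (G := Red.bc (S.fromSpecResidueField t) G) (H := Red.bc (S.fromSpecResidueField t) H)
    (SGA7.fibreHom t u) hiso.2
  have h2 : Surjective (SGA7.fibreHom t u).left := hiso.1
  have h3 := flat_fibreHom u hts
  obtain ⟨U1, hU1⟩ := exists_open_flat u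
  obtain ⟨U2, hs2, hU2⟩ := exists_open_lqf u s
  have hs1 : s ∈ U1 := by
    have h4 := isFlatAt_of_flat_fibreHom u s ((η[G] : 𝟙_ (Over S) ⟶ G).left s) (hom_unit G s)
    have h5 := (hU1 _).mpr h4
    rwa [hom_unit] at h5
  refine ⟨U1 ⊓ U2, ⟨hs1, hs2⟩, flat_map u _ fun x hx => (hU1 x).mp ?_, hU2 _ ?_⟩
  · rw [Scheme.Opens.range_ι] at hx
    exact hx.1
  · rw [Scheme.Opens.range_ι]
    exact fun x hx => hx.2

end Groth.Agent.Sga7.H760.Nhd
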